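import Mathlib
import Cfsg.Agent.S0713

/-!
# Elements of prime order in subgroups of the symmetric group of degree eleven

`Good H`: no member of `H` is a cycle of prime length below eleven.
-/

set_option autoImplicit false

namespace Cfsg.Agent.DegreeEleven

open Equiv Subgroup

variable {α : Type*} [Fintype α] [DecidableEq α]

/-- No member is a cycle of prime length below eleven. -/
def Good (H : Subgroup (Perm α)) : Prop :=
  ∀ g ∈ H, g.IsCycle → g.support.card.Prime → g.support.card = 11

theorem Good.mono {H K : Subgroup (Perm α)} (h : Good K) (hHK : H ≤ K) : Good H :=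
  fun g hg => h g (hHK hg)

theorem good_of_primitive (hα : Fintype.card α = 11) (G : Subgroup (Perm α))
    (hG : MulAction.IsPreprimitive G α) (hA : ¬ alternatingGroup α ≤ G) : Good G := by
  intro g hg hc hp
  by_contra h
  have hle : g.support.card ≤ 11 := hα ▸ g.support.card_le_univ
  have h8 : g.support.card + 3 ≤ 11 := by
    by_contra h8
    rcases (show g.support.card = 9 ∨ g.support.card = 10 by omega) with e | e <;>
      rw [e] at hp <;> norm_num at hp
  exact hA (S0713.result G hG hp (by omega) (by omega) hc rfl hg)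

theorem prime_dvd_support {σ : Perm α} {p : ℕ} (hp : p.Prime) (ho : orderOf σ = p) :
    ∃ k, 0 < k ∧ σ.support.card = k * p ∧ σ.cycleType.card = k := by
  obtain ⟨n, hn⟩ := Perm.cycleType_prime_order (σ := σ) (ho ▸ hp)
  refine ⟨n + 1, n.succ_pos, ?_, by rw [hn, Multiset.card_replicate]⟩
  rw [← σ.sum_cycleType, hn, Multiset.sum_replicate, smul_eq_mul, ho]

theorem support_of_order_five (hα : Fintype.card α = 11) {H : Subgroup (Perm α)} (hH : Good H)
    {q : Perm α} (hq : q ∈ H) (ho : orderOf q = 5) : q.support.card = 10 := by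
  obtain ⟨k, hk, hs, hc⟩ := prime_dvd_support (by norm_num) ho
  have hle : q.support.card ≤ 11 := hα ▸ q.support.card_le_univ
  rcases (show k = 1 ∨ k = 2 by omega) with rfl | rfl
  · have := hH q hq (Perm.card_cycleType_eq_one.1 hc) (by rw [hs]; norm_num)
    omega
  · omega

theorem support_of_order_two (hα : Fintype.card α = 11) {H : Subgroup (Perm α)} (hH : Good H)
    {t : Perm α} (ht : t ∈ H) (ho : orderOf t = 2) :
    (t.support.card = 4 ∨ t.support.card = 8) ∧ Perm.sign t = 1 ∨
      (t.support.card = 6 ∨ t.support.card = 10) ∧ Perm.sign t = -1 := by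
  obtain ⟨k, hk, hs, hc⟩ := prime_dvd_support (by norm_num) ho
  have hle : t.support.card ≤ 11 := hα ▸ t.support.card_le_univ
  have hsg : Perm.sign t = (-1) ^ (k * 2 + k) := by
    rw [Perm.sign_of_cycleType, t.sum_cycleType, hs, hc]
  have hk1 : k ≠ 1 := fun e => by
    subst e
    have := hH t ht (Perm.card_cycleType_eq_one.1 hc) (by rw [hs]; norm_num)
    omega
  rcases (show k = 2 ∨ k = 3 ∨ k = 4 ∨ k = 5 by omega) with rfl | rfl | rfl | rfl
  · exact Or.inl ⟨Or.inl (by omega), by rw [hsg]; decide⟩
  · exact Or.inr ⟨Or.inl (by omega), by rw [hsg]; decide⟩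
  · exact Or.inl ⟨Or.inr (by omega), by rw [hsg]; decide⟩
  · exact Or.inr ⟨Or.inr (by omega), by rw [hsg]; decide⟩

theorem fixed_card (σ : Perm α) :
    ((Finset.univ : Finset α).filter fun x => σ x = x).card + σ.support.card = Fintype.card α := by
  rw [show σ.support = (Finset.univ : Finset α).filter (fun x => ¬ σ x = x) from by
    ext x; simp [Perm.mem_support]]
  exact Finset.card_filter_add_card_filter_not _

omit [Fintype α] [DecidableEq α] in
/-- A permutation commuting with `σ` permutes its fixed points. -/
theorem apply_fixed_of_commute {σ τ : Perm α} (h : τ * σ = σ * τ) {x : α} (hx : σ x = x) :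
    σ (τ x) = τ x := by
  rw [← Perm.mul_apply, ← h, Perm.mul_apply, hx]

theorem exists_unique_fixed {σ : Perm α} (h : σ.support.card + 1 = Fintype.card α) :
    ∃ x, σ x = x ∧ ∀ y, σ y = y → y = x := by
  have hf := fixed_card σ
  obtain ⟨x, hx⟩ := Finset.card_eq_one.1
    (show ((Finset.univ : Finset α).filter fun x => σ x = x).card = 1 by omega)
  refine ⟨x, ?_, fun y hy => ?_⟩
  · have : x ∈ ((Finset.univ : Finset α).filter fun x => σ x = x) := by rw [hx]; simp
    exact (Finset.mem_filter.1 this).2
  · have : y ∈ ((Finset.univ : Finset α).filter fun x => σ x = x) := by simp [hy]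
    rwa [hx, Finset.mem_singleton] at this

/-- A subgroup whose order contains the full `p`-part of `11!` contains a `p`-cycle. -/
theorem full_part (hα : Fintype.card α = 11) {H : Subgroup (Perm α)} (hH : Good H)
    {p v : ℕ} [hp : Fact p.Prime] (hlt : p < 11) (hv : (Nat.factorial 11).factorization p = v) :
    ¬ p ^ v ∣ Nat.card H := by
  classical
  intro hd
  have hcard : Nat.card (Perm α) = Nat.factorial 11 := by
    rw [Nat.card_eq_fintype_card, Fintype.card_perm, hα]
  obtain ⟨P, hP⟩ := Sylow.exists_subgroup_card_pow_prime p hd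
  obtain ⟨R, hR⟩ : ∃ R : Sylow p (Perm α), (R : Subgroup (Perm α)) = P.map H.subtype :=
    ⟨Sylow.ofCard (P.map H.subtype) (by
      rw [Subgroup.card_map_of_injective H.subtype_injective, hP, hcard, hv]), rfl⟩
  obtain ⟨V, -, hV⟩ := Finset.exists_subset_card_eq (s := (Finset.univ : Finset α)) (n := p)
    (by rw [Finset.card_univ, hα]; omega)
  let c : Perm α := V.toList.formPerm
  have hc : c.IsCycle := List.isCycle_formPerm V.nodup_toList
    (by rw [Finset.length_toList, hV]; exact hp.out.two_le)
  have hcs : c.support = V := by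
    rw [List.support_formPerm_of_nodup _ V.nodup_toList, Finset.toList_toFinset]
    intro x hx
    have := congrArg List.length hx
    rw [Finset.length_toList, List.length_singleton, hV] at this
    exact hp.out.ne_one this
  have ho : orderOf c = p := by rw [hc.orderOf, hcs, hV]
  obtain ⟨Q, hQ⟩ := (IsPGroup.of_card (n := 1) (by rw [Nat.card_zpowers, ho, pow_one]) :
    IsPGroup p (zpowers c)).exists_le_sylow
  obtain ⟨g, hg⟩ := MulAction.exists_smul_eq (Perm α) Q R
  have hmem : g * c * g⁻¹ ∈ (R : Subgroup (Perm α)) := by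
    rw [← hg, Sylow.coe_subgroup_smul, Subgroup.mem_pointwise_smul_iff_inv_smul_mem]
    have : (MulAut.conj g)⁻¹ • (g * c * g⁻¹) = c := by
      simp [MulAut.smul_def, mul_assoc]
    rw [this]
    exact hQ (mem_zpowers c)
  rw [hR] at hmem
  have := hH _ (map_subtype_le P hmem) hc.conj
    (by rw [Perm.card_support_conj, hcs, hV]; exact hp.out)
  rw [Perm.card_support_conj, hcs, hV] at this
  omega

end Cfsg.Agent.DegreeEleven
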