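import Cfsg.Agent.DegreeEleven.Basic
import Cfsg.Agent.SmallOrder.Perm
import Cfsg.Agent.SporadicA.SharplyTransitiveDeg

/-!
# The possible orders of an insoluble even group of degree eleven
-/

set_option autoImplicit false

namespace Cfsg.Agent.DegreeEleven

open Equiv Subgroup

variable {α : Type*} [Fintype α] [DecidableEq α]

/-- The only prime order elements commuting with an element of order five have order five or are
odd involutions. -/
theorem commute_five (hα : Fintype.card α = 11) {H : Subgroup (Perm α)} (hH : Good H)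
    {q z : Perm α} (hq : q ∈ H) (hz : z ∈ H) (hoq : orderOf q = 5) {p : ℕ} (hp : p.Prime)
    (hoz : orderOf z = p) (hcomm : z * q = q * z) :
    p = 5 ∨ p = 2 ∧ Perm.sign z = -1 := by
  classical
  have hsq := support_of_order_five hα hH hq hoq
  obtain ⟨x, hx, huniq⟩ := exists_unique_fixed (σ := q) (by omega)
  have hzx : z x = x := huniq _ (apply_fixed_of_commute hcomm hx)
  obtain ⟨k, hk, hs, -⟩ := prime_dvd_support hp hoz
  have hle : z.support.card ≤ 11 := hα ▸ z.support.card_le_univ
  -- the support of `z` is a union of orbits of `q`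
  have hdiv : 5 ∣ z.support.card := by
    have hinv : ∀ y, y ∈ z.support ↔ q y ∈ z.support := fun y => by
      simp only [Perm.mem_support, ne_eq]
      refine not_congr ⟨fun e => ?_, fun e => ?_⟩
      · rw [← Perm.mul_apply, hcomm, Perm.mul_apply, e]
      · refine q.injective ?_
        rw [← Perm.mul_apply, ← hcomm, Perm.mul_apply, e]
    let r : Perm {y // y ∈ z.support} := q.subtypePerm (fun y => (hinv y).symm)
    have hr : r ^ 5 = 1 := by
      ext y
      have : (q ^ 5) (y : α) = y := by rw [← hoq, pow_orderOf_eq_one]; rfl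
      simpa [r, Perm.subtypePerm_pow] using this
    obtain ⟨j, hj⟩ := SmallOrder.cycleType_of_pow_eq_one (hp := ⟨by norm_num⟩) hr
    have hfull : r.support = Finset.univ := by
      refine Finset.eq_univ_of_forall fun y => Perm.mem_support.2 fun e => ?_
      have : q (y : α) = y := congrArg Subtype.val e
      exact Perm.mem_support.1 y.2 (by rw [huniq _ this, hzx])
    have h1 := r.sum_cycleType
    rw [hj, Multiset.sum_replicate, hfull, Finset.card_univ, Fintype.card_coe] at h1
    exact ⟨j, by rw [← h1, smul_eq_mul, mul_comm]⟩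
  have hne : z.support.card ≠ 11 := fun e => by
    have := Finset.eq_univ_of_card z.support (e.trans hα.symm)
    exact Perm.mem_support.1 (this ▸ Finset.mem_univ x) hzx
  have hkp : k * p = 5 ∨ k * p = 10 := by
    obtain ⟨j, hj⟩ := hdiv
    have h0 : 0 < k * p := Nat.mul_pos hk hp.pos
    omega
  rcases hkp with hkp | hkp
  · exact Or.inl ((Nat.prime_dvd_prime_iff_eq hp (by norm_num)).1 ⟨k, by rw [← hkp, mul_comm]⟩)
  · have : p ∣ 2 * 5 := ⟨k, by rw [mul_comm p k, hkp]⟩
    rcases hp.dvd_mul.1 this with h | h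
    · have hp2 := (Nat.prime_dvd_prime_iff_eq hp (by norm_num)).1 h
      subst hp2
      rcases support_of_order_two hα hH hz hoz with ⟨h', -⟩ | ⟨-, h'⟩
      · omega
      · exact Or.inr ⟨rfl, h'⟩
    · exact Or.inl ((Nat.prime_dvd_prime_iff_eq hp (by norm_num)).1 h)

theorem factorization_eq {N p v m : ℕ} (hp : p.Prime) (hN : N = p ^ v * m) (hm : ¬ p ∣ m) :
    N.factorization p = v := by
  have hm0 : m ≠ 0 := fun h => hm (h ▸ dvd_zero p)
  rw [hN, Nat.factorization_mul (pow_ne_zero _ hp.ne_zero) hm0, Finsupp.add_apply,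
    Nat.factorization_eq_zero_of_not_dvd hm, hp.factorization_pow, Finsupp.single_eq_same,
    add_zero]

theorem not_dvd_bad (hα : Fintype.card α = 11) {H : Subgroup (Perm α)} (hH : Good H) :
    ¬ 3 ^ 4 ∣ Nat.card H ∧ ¬ 5 ^ 2 ∣ Nat.card H ∧ ¬ 7 ∣ Nat.card H := by
  have h3 : Fact (Nat.Prime 3) := ⟨by norm_num⟩
  have h5 : Fact (Nat.Prime 5) := ⟨by norm_num⟩
  have h7 : Fact (Nat.Prime 7) := ⟨by norm_num⟩
  refine ⟨full_part hα hH (by norm_num) (factorization_eq h3.out (m := 492800)
      (by norm_num [Nat.factorial]) (by norm_num)),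
    full_part hα hH (by norm_num) (factorization_eq h5.out (m := 1596672)
      (by norm_num [Nat.factorial]) (by norm_num)), ?_⟩
  have := full_part hα hH (p := 7) (v := 1) (by norm_num) (factorization_eq h7.out (m := 5702400)
    (by norm_num [Nat.factorial]) (by norm_num))
  simpa using this

/-- In an even group the centraliser of an element of order five has order five. -/
theorem card_centralizer_five (hα : Fintype.card α = 11) {H : Subgroup (Perm α)} (hH : Good H)
    (hHA : H ≤ alternatingGroup α) (q : H) (hq : orderOf q = 5) :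
    Nat.card (centralizer ({q} : Set H)) = 5 := by
  have h5 : Fact (Nat.Prime 5) := ⟨by norm_num⟩
  have hqmem : q ∈ centralizer ({q} : Set H) := mem_centralizer_singleton_iff.2 rfl
  have hd : 5 ∣ Nat.card (centralizer ({q} : Set H)) := by
    rw [← hq]
    exact Subgroup.orderOf_dvd_natCard _ hqmem
  have hpow : ∀ p : ℕ, p.Prime → p ∣ Nat.card (centralizer ({q} : Set H)) → p = 5 := by
    intro p hp hpd
    have := Fact.mk hp
    obtain ⟨z, hz⟩ := exists_prime_orderOf_dvd_card' p hpd
    have hzc := mem_centralizer_singleton_iff.1 z.2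
    rcases commute_five hα hH q.2 (z : H).2 ((Subgroup.orderOf_coe q).trans hq) hp
      ((Subgroup.orderOf_coe (z : H)).trans ((Subgroup.orderOf_coe z).trans hz))
      (congrArg Subtype.val hzc) with h | ⟨-, h⟩
    · exact h
    · rw [Perm.mem_alternatingGroup.1 (hHA (z : H).2)] at h
      exact absurd h (by decide)
  obtain ⟨k, hk⟩ : ∃ k, Nat.card (centralizer ({q} : Set H)) = 5 ^ k :=
    ⟨_, Nat.eq_prime_pow_of_unique_prime_dvd Nat.card_pos.ne' (fun {d} h1 h2 => hpow d h1 h2)⟩
  rcases k with _ | _ | k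
  · rw [hk] at hd; norm_num at hd
  · simpa using hk
  · exfalso
    refine (not_dvd_bad hα hH).2.1 ?_
    exact (show 5 ^ 2 ∣ 5 ^ (k + 2) from pow_dvd_pow 5 (by omega)).trans
      (hk ▸ Subgroup.card_subgroup_dvd_card _)

/-- The normaliser of a subgroup of order five has order `5 e` with `e` dividing four, and its
number of conjugates is congruent to one modulo five. -/
theorem five_data (hα : Fintype.card α = 11) {H : Subgroup (Perm α)} (hH : Good H)
    (hHA : H ≤ alternatingGroup α) (h5 : 5 ∣ Nat.card H) :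
    ∃ e, (e = 1 ∨ e = 2 ∨ e = 4) ∧ (Nat.card H / (5 * e)) % 5 = 1 ∧ 5 * e ∣ Nat.card H ∧
      ∀ P : Sylow 5 H, Nat.card (P : Subgroup H) = 5 ∧
        Nat.card (centralizer ((P : Subgroup H) : Set H)) = 5 ∧
        Nat.card (normalizer ((P : Subgroup H) : Set H)) = 5 * e := by
  have : Fact (Nat.Prime 5) := ⟨by norm_num⟩
  obtain ⟨m, hm⟩ := h5
  have hm5 : ¬ 5 ∣ m := fun ⟨j, hj⟩ => (not_dvd_bad hα hH).2.1 ⟨j, by rw [hm, hj]; ring⟩
  have hP : ∀ P : Sylow 5 H, Nat.card (P : Subgroup H) = 5 := fun P => by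
    simpa using SmallOrder.card_sylow_eq_pow (a := 1) (by rw [hm, pow_one]) hm5 P
  have hC : ∀ P : Sylow 5 H, Nat.card (centralizer ((P : Subgroup H) : Set H)) = 5 := fun P => by
    obtain ⟨y, hy⟩ := exists_prime_orderOf_dvd_card' 5 (hP P).symm.dvd
    have hyP : zpowers (y : H) = (P : Subgroup H) := eq_of_le_of_card_ge (zpowers_le.2 y.2)
      (by rw [hP, Nat.card_zpowers, Subgroup.orderOf_coe, hy])
    rw [← hyP, zpowers_eq_closure, centralizer_closure]
    exact card_centralizer_five hα hH hHA _ ((Subgroup.orderOf_coe y).trans hy)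
  obtain ⟨P⟩ : Nonempty (Sylow 5 H) := inferInstance
  have hsame : ∀ R : Sylow 5 H, Nat.card (normalizer ((R : Subgroup H) : Set H)) =
      Nat.card (normalizer ((P : Subgroup H) : Set H)) := fun R => by
    have h1 := SmallOrder.card_sylow_mul_card_normalizer R
    rw [← SmallOrder.card_sylow_mul_card_normalizer P] at h1
    exact Nat.eq_of_mul_eq_mul_left Nat.card_pos h1
  obtain ⟨e, he, hN, -⟩ := SmallOrder.exists_normalizer_index (P : Subgroup H)
  rw [SmallOrder.card_mulAut_of_prime (hP P)] at he
  rw [hC] at hN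
  have hmul := SmallOrder.card_sylow_mul_card_normalizer P
  rw [hN] at hmul
  refine ⟨e, ?_, ?_, ⟨_, hmul.symm.trans (mul_comm _ _)⟩,
    fun R => ⟨hP R, hC R, (hsame R).trans hN⟩⟩
  · have := Nat.le_of_dvd (by norm_num) he
    interval_cases e <;> simp_all
  · rw [← hmul, Nat.mul_div_cancel _ (by rw [← hN]; exact Nat.card_pos)]
    exact SmallOrder.card_sylow_mod 5

theorem candidates_table : ∀ b : ℕ, b < 8 → ∀ a : ℕ, a < 4 → 2 ^ b * 3 ^ a % 11 = 1 →
    2 ^ b * 3 ^ a = 1 ∨ 2 ^ b * 3 ^ a = 12 ∨ 2 ^ b * 3 ^ a = 144 ∨ 2 ^ b * 3 ^ a = 1728 := by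
  decide +kernel

theorem candidates {n : ℕ} (h : n ∣ 3456) (h1 : n % 11 = 1) :
    n = 1 ∨ n = 12 ∨ n = 144 ∨ n = 1728 := by
  obtain ⟨i, k, hi, hk, rfl⟩ := Nat.dvd_mul.1 (show n ∣ 2 ^ 7 * 3 ^ 3 from h)
  obtain ⟨b, hb, rfl⟩ := (Nat.dvd_prime_pow Nat.prime_two).1 hi
  obtain ⟨a, ha, rfl⟩ := (Nat.dvd_prime_pow Nat.prime_three).1 hk
  exact candidates_table b (by omega) a (by omega) h1

theorem card_alt_eleven (hα : Fintype.card α = 11) :
    Nat.card (alternatingGroup α) = 19958400 := by
  have : Nontrivial α := Fintype.one_lt_card_iff_nontrivial.1 (by omega)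
  rw [nat_card_alternatingGroup, Nat.card_eq_fintype_card, hα]
  rw [show Nat.factorial 11 = 39916800 by norm_num [Nat.factorial_succ]]

/-- The order of an insoluble transitive even group without small prime cycles. -/
theorem order_cases (hα : Fintype.card α = 11) {H : Subgroup (Perm α)} (hH : Good H)
    (hHA : H ≤ alternatingGroup α) (ht : MulAction.IsPretransitive H α)
    (hns : ¬ Group.IsSolvable H) :
    (Nat.card H = 660 ∨ Nat.card H = 7920) ∧
      ∀ P : Sylow 11 H, Nat.card (P : Subgroup H) = 11 ∧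
        Nat.card (normalizer ((P : Subgroup H) : Set H)) = 55 := by
  classical
  have h11 : Fact (Nat.Prime 11) := ⟨by norm_num⟩
  have hn : Nat.card α = 11 := by rw [Nat.card_eq_fintype_card, hα]
  have : Nonempty α := Fintype.card_pos_iff.1 (by omega)
  have h11d : 11 ∣ Nat.card H := hn ▸ SharplyTransitive.card_dvd_of_transitive (H := H) (α := α)
  have hAd : Nat.card H ∣ 19958400 := card_alt_eleven hα ▸ card_dvd_of_le hHA
  obtain ⟨m, hm⟩ := h11d
  have hm11 : ¬ 11 ∣ m := fun ⟨j, hj⟩ => by
    have : 11 * 11 ∣ 19958400 := (dvd_mul_right (11 * 11) j).trans (by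
      rw [mul_assoc, ← hj, ← hm]; exact hAd)
    norm_num at this
  have hP : ∀ P : Sylow 11 H, Nat.card (P : Subgroup H) = 11 := fun P => by
    simpa using SmallOrder.card_sylow_eq_pow (a := 1) (by rw [hm, pow_one]) hm11 P
  obtain ⟨P⟩ : Nonempty (Sylow 11 H) := inferInstance
  have : FaithfulSMul H α := ⟨fun h => Subtype.ext (FaithfulSMul.eq_of_smul_eq_smul h)⟩
  obtain ⟨hC, d, hd, hN⟩ := SharplyTransitive.sylow_prime_degree hn P (hP P)
  set n := Nat.card (Sylow 11 H) with hndef
  have hmul := SmallOrder.card_sylow_mul_card_normalizer P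
  rw [hN] at hmul
  -- `d` is odd
  have hd2 : ¬ 2 ∣ d := by
    intro h2
    have : Fact (Nat.Prime 2) := ⟨Nat.prime_two⟩
    obtain ⟨z, hz⟩ := exists_prime_orderOf_dvd_card'
      (G := normalizer ((P : Subgroup H) : Set H)) 2 (hN ▸ dvd_mul_of_dvd_right h2 11)
    obtain ⟨y, hy⟩ := exists_prime_orderOf_dvd_card' 11 (hP P).symm.dvd
    set t : Perm α := ((z : H) : Perm α) with htdef
    set c : Perm α := ((y : H) : Perm α) with hcdef
    have hot : orderOf t = 2 := by rw [htdef, Subgroup.orderOf_coe, Subgroup.orderOf_coe, hz]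
    have hoc : orderOf c = 11 := by rw [hcdef, Subgroup.orderOf_coe, Subgroup.orderOf_coe, hy]
    obtain ⟨k, hk, hcs, hck⟩ := prime_dvd_support (by norm_num) hoc
    have hle : c.support.card ≤ 11 := hα ▸ c.support.card_le_univ
    obtain rfl : k = 1 := by omega
    have hcyc : c.IsCycle := Perm.card_cycleType_eq_one.1 hck
    have hall : ∀ a, c a ≠ a := fun a => Perm.mem_support.1 (by
      rw [Finset.eq_univ_of_card c.support (by omega)]; exact Finset.mem_univ a)
    -- conjugation by `z` inverts `y`
    have hmem : (z : H) * y * (z : H)⁻¹ ∈ (P : Subgroup H) :=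
      (mem_normalizer_iff.1 z.2 _).1 y.2
    have hzp : zpowers (y : H) = (P : Subgroup H) := eq_of_le_of_card_ge (zpowers_le.2 y.2)
      (by rw [hP, Nat.card_zpowers, Subgroup.orderOf_coe, hy])
    obtain ⟨i, hi⟩ := mem_zpowers_iff.1 (hzp.ge hmem)
    have hi' : c ^ i = t * c * t⁻¹ := by
      have := congrArg (Subtype.val : H → Perm α) hi
      simpa [htdef, hcdef] using this
    have htt : t * t = 1 := by rw [← sq, ← hot, pow_orderOf_eq_one]
    have htinv : t⁻¹ = t := inv_eq_of_mul_eq_one_right htt
    have hpi : ∀ j : ℤ, t * c ^ j * t⁻¹ = c ^ (i * j) := fun j => by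
      rw [← conj_zpow, ← hi', zpow_mul]
    have hii : c ^ (i * i) = c := by
      rw [← hpi, hi', htinv]
      simp only [← mul_assoc, htt, one_mul]
      rw [mul_assoc, htt, mul_one]
    have hdiv : (11 : ℤ) ∣ (i - 1) * (i + 1) := by
      have : c ^ ((i - 1) * (i + 1)) = 1 := by
        rw [show (i - 1) * (i + 1) = i * i - 1 by ring, zpow_sub, hii, zpow_one, mul_inv_cancel]
      have := orderOf_dvd_iff_zpow_eq_one.2 this
      rwa [hoc] at this
    have hiv : (11 : ℤ) ∣ i + 1 := by
      refine ((Int.prime_iff_natAbs_prime.2 (by norm_num)).dvd_or_dvd hdiv).resolve_left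
        fun h1 => ?_
      -- otherwise `z` centralises `P`
      have hcc : c ^ i = c := by
        obtain ⟨j, hj⟩ := h1
        rw [show i = 11 * j + 1 by omega, zpow_add, zpow_mul, zpow_one,
          show c ^ (11 : ℤ) = 1 by rw [show (11 : ℤ) = ((11 : ℕ) : ℤ) by norm_num,
            zpow_natCast, ← hoc, pow_orderOf_eq_one], one_zpow, one_mul]
      have hzC : (z : H) ∈ centralizer ((P : Subgroup H) : Set H) := by
        have hcy : centralizer ((P : Subgroup H) : Set H) = centralizer {(y : H)} :=
          (congrArg (fun K : Subgroup H => centralizer (K : Set H)) hzp).symm.trans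
            (by rw [zpowers_eq_closure, centralizer_closure])
        refine hcy ▸ mem_centralizer_singleton_iff.2 ?_
        apply Subtype.ext
        show t * c = c * t
        rw [← mul_inv_eq_iff_eq_mul, ← hi', hcc]
      have h2 := Subgroup.orderOf_dvd_natCard _ (hC hzC)
      rw [hP, Subgroup.orderOf_coe, hz] at h2
      norm_num at h2
    -- `t` fixes exactly one point
    have hts := support_of_order_two (t := t) hα hH (z : H).2 hot
    have hsign : Perm.sign t = 1 := Perm.mem_alternatingGroup.1 (hHA (z : H).2)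
    have hf := fixed_card t
    have h1f : Fintype.card α ≤ t.support.card + 1 := by
      by_contra hlt
      obtain ⟨a, ha, b, hb, hne⟩ := Finset.one_lt_card.1 (show 1 < _ by omega : 1 <
        ((Finset.univ : Finset α).filter fun x => t x = x).card)
      simp only [Finset.mem_filter] at ha hb
      refine hne ?_
      obtain ⟨j, hj⟩ := hcyc.sameCycle (hall a) (hall b)
      have hneg : c ^ (i * j) = c ^ (-j) := by
        obtain ⟨l, hl⟩ := hiv
        rw [show i * j = 11 * (l * j) + -j by rw [show i = 11 * l - 1 by omega]; ring,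
          zpow_add, zpow_mul,
          show c ^ (11 : ℤ) = 1 by rw [show (11 : ℤ) = ((11 : ℕ) : ℤ) by norm_num,
            zpow_natCast, ← hoc, pow_orderOf_eq_one], one_zpow, one_mul]
      have h2 : (c ^ (-j)) a = b := by
        rw [← hneg, ← hpi, Perm.mul_apply, Perm.mul_apply, htinv, ha.2, hj, hb.2]
      have h3 : (c ^ (j + j)) a = a := by
        conv_lhs => rw [zpow_add, Perm.mul_apply, hj, ← h2]
        rw [← Perm.mul_apply, ← zpow_add, add_neg_cancel, zpow_zero, Perm.one_apply]
      have h4 : c ^ (j + j) = 1 := Equiv.ext fun w => by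
        obtain ⟨l, rfl⟩ := hcyc.sameCycle (hall a) (hall w)
        rw [← Perm.mul_apply, ← zpow_add, add_comm, zpow_add, Perm.mul_apply, h3, Perm.one_apply]
      have h5 := orderOf_dvd_iff_zpow_eq_one.2 h4
      rw [hoc] at h5
      obtain ⟨l, hl⟩ := h5
      obtain ⟨r, hr⟩ : (11 : ℤ) ∣ j := by omega
      rw [hr, zpow_mul, show c ^ (11 : ℤ) = 1 by rw [show (11 : ℤ) = ((11 : ℕ) : ℤ) by norm_num,
        zpow_natCast, ← hoc, pow_orderOf_eq_one], one_zpow, Perm.one_apply] at hj
      exact hj
    rcases hts with ⟨h, -⟩ | ⟨-, h⟩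
    · omega
    · rw [hsign] at h; exact absurd h (by decide)
  have hd15 : d = 1 ∨ d = 5 := by
    have := Nat.le_of_dvd (by norm_num) hd
    interval_cases d <;> simp_all <;> omega
  -- `d = 1` gives a normal complement
  have hd5 : d = 5 := by
    refine hd15.resolve_left fun h1 => hns ?_
    subst h1
    rw [mul_one] at hN
    have hPN : (P : Subgroup H) = normalizer ((P : Subgroup H) : Set H) :=
      eq_of_le_of_card_ge le_normalizer (by rw [hN, hP])
    have hcyc : IsCyclic (P : Subgroup H) := isCyclic_of_prime_card (hP P)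
    have hle : normalizer ((P : Subgroup H) : Set H) ≤
        centralizer ((P : Subgroup H) : Set H) := by
      rw [← hPN]
      have := hcyc.isMulCommutative
      exact (P : Subgroup H).le_centralizer
    set K := (MonoidHom.transferSylow P hle).ker with hKdef
    have hK := MonoidHom.ker_transferSylow_isComplement' P hle
    rw [← hKdef] at hK
    have hKc := hK.card_mul
    rw [hP, hm] at hKc
    by_cases hKb : K = ⊥
    · have : Nat.card H = 11 := by rw [hm]; rw [hKb, card_bot] at hKc; omega
      have := isCyclic_of_prime_card this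
      have := this.isMulCommutative
      exact isSolvable_of_comm fun a b => mul_comm' a b
    · exfalso
      have hprim : MulAction.IsPreprimitive H α :=
        MulAction.IsPreprimitive.of_prime_card (hn ▸ h11.out)
      have := SharplyTransitive.normal_transitive (α := α) K hKb
      have h2 := SharplyTransitive.card_dvd_of_transitive (H := K) (α := α)
      rw [hn] at h2
      exact hm11 (by rw [← Nat.eq_of_mul_eq_mul_right (by norm_num : 0 < 11)
        (show Nat.card K * 11 = m * 11 by rw [hKc, mul_comm])]; exact h2)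
  subst hd5
  change n * (11 * 5) = Nat.card H at hmul
  rw [show 11 * 5 = 55 by norm_num] at hmul
  have hall : ∀ R : Sylow 11 H, Nat.card (normalizer ((R : Subgroup H) : Set H)) = 55 := fun R => by
    have h1 := SmallOrder.card_sylow_mul_card_normalizer R
    rw [← hmul] at h1
    simpa using Nat.eq_of_mul_eq_mul_left Nat.card_pos h1
  refine ⟨?_, fun R => ⟨hP R, hall R⟩⟩
  obtain ⟨h3b, h5b, h7b⟩ := not_dvd_bad hα hH
  have hn3456 : n ∣ 3456 := by
    have hn0 : n * 55 = Nat.card H := hmul
    have h1 : n ∣ 19958400 / 55 := by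
      refine Nat.dvd_div_of_mul_dvd ?_
      rw [mul_comm, hn0]
      exact hAd
    norm_num at h1
    have hc5 : Nat.Coprime n 5 := ((Nat.Prime.coprime_iff_not_dvd (by norm_num)).2 fun h =>
      h5b (hn0 ▸ (show 5 ^ 2 ∣ n * 55 from mul_dvd_mul h (by norm_num : (5 : ℕ) ∣ 55)))).symm
    have hc7 : Nat.Coprime n 7 := ((Nat.Prime.coprime_iff_not_dvd (by norm_num)).2 fun h =>
      h7b (hn0 ▸ dvd_mul_of_dvd_left h 55)).symm
    have h2 : n ∣ 10368 := by
      refine (Nat.Coprime.dvd_of_dvd_mul_right (hc5.mul_right hc7) ?_)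
      exact h1
    obtain ⟨i, k, hi, hk, hj⟩ := Nat.dvd_mul.1 (show n ∣ 2 ^ 7 * 3 ^ 4 from h2)
    obtain ⟨b, hb, rfl⟩ := (Nat.dvd_prime_pow Nat.prime_two).1 hi
    obtain ⟨a, ha, rfl⟩ := (Nat.dvd_prime_pow Nat.prime_three).1 hk
    rw [← hj]
    have ha4 : a ≠ 4 := by
      rintro rfl
      exact h3b (hn0 ▸ dvd_mul_of_dvd_left (hj ▸ dvd_mul_left _ _) 55)
    exact (Nat.mul_dvd_mul (pow_dvd_pow 2 hb) (pow_dvd_pow 3 (show a ≤ 3 by omega))).trans
      (by norm_num)
  rcases candidates hn3456
    (SmallOrder.card_sylow_mod 11) with h | h | h | h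
  · -- a normal Sylow subgroup
    exfalso
    apply hns
    rw [h, one_mul] at hmul
    have hnt : normalizer ((P : Subgroup H) : Set H) = ⊤ :=
      eq_top_of_card_eq _ (hN.trans hmul)
    have : (P : Subgroup H).Normal := normalizer_eq_top_iff.1 hnt
    have hcycP : IsCyclic (P : Subgroup H) := isCyclic_of_prime_card (hP P)
    have hq : Nat.card (H ⧸ (P : Subgroup H)) = 5 := by
      have h2 := card_eq_card_quotient_mul_card_subgroup (P : Subgroup H)
      rw [hP] at h2; omega
    have : Fact (Nat.Prime 5) := ⟨by norm_num⟩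
    have := isCyclic_of_prime_card hq
    have := hcycP.isMulCommutative
    have := (inferInstance : IsCyclic (H ⧸ (P : Subgroup H))).isMulCommutative
    exact solvable_of_ker_le_range ((P : Subgroup H)).subtype
      (QuotientGroup.mk' (P : Subgroup H))
      (by rw [QuotientGroup.ker_mk', Subgroup.range_subtype])
  · exact Or.inl (by rw [← hmul, h])
  · exact Or.inr (by rw [← hmul, h])
  · exfalso
    obtain ⟨e, he, hmod, -⟩ := five_data hα hH hHA (by rw [← hmul]; norm_num [h])
    rw [← hmul, h] at hmod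
    rcases he with rfl | rfl | rfl <;> norm_num at hmod

end Cfsg.Agent.DegreeEleven
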