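import Cfsg.Agent.DegreeEleven.Sharp

/-!
# Insoluble transitive groups of degree eleven

The even part of such a group is the whole group; it has order 7920 or is simple of order 660.
-/

set_option autoImplicit false

namespace Cfsg.Agent.DegreeEleven

open Equiv Subgroup

variable {α : Type*} [Fintype α] [DecidableEq α]

/-- An involution commuting with an element of order five does not fix exactly five points. -/
theorem fix_five_false (hα : Fintype.card α = 11) {H : Subgroup (Perm α)} (hH : Good H)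
    {q u : Perm α} (hq : q ∈ H) (ho : orderOf q = 5) (h : q * u = u * q)
    (hu : u.support.card = 6) : False := by
  classical
  have : Fact (Nat.Prime 5) := ⟨by norm_num⟩
  obtain ⟨x, hx, huniq⟩ := exists_unique_fixed (σ := q)
    (by rw [support_of_order_five hα hH hq ho, hα])
  have hux : u x = x := huniq _ (apply_fixed_of_commute h.symm hx)
  set F : Set α := {w | u w = w} with hF
  have hFc : Nat.card F = 5 := by
    have h1 := fixed_card u
    rw [Nat.card_coe_set_eq, Set.ncard_eq_toFinset_card', Set.toFinset_setOf]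
    omega
  let f : SubMulAction (zpowers q) α :=
    { carrier := F
      smul_mem' := fun g w hw => by
        obtain ⟨i, hi⟩ := mem_zpowers_iff.1 g.2
        refine apply_fixed_of_commute ?_ hw
        rw [← hi]
        exact (Commute.zpow_left (show Commute q u from h) i).eq }
  have hP : IsPGroup 5 (zpowers q) := IsPGroup.of_card (n := 1) (by
    rw [Nat.card_zpowers, ho, pow_one])
  have hmod := hP.card_modEq_card_fixedPoints f
  have hfp : MulAction.fixedPoints (zpowers q) f = {(⟨x, hux⟩ : f)} := by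
    ext w
    refine ⟨fun hw => ?_, fun hw g => ?_⟩
    · exact Subtype.ext (huniq _ (congrArg Subtype.val (hw ⟨q, mem_zpowers q⟩)))
    · obtain rfl := hw
      refine Subtype.ext ?_
      obtain ⟨i, hi⟩ := mem_zpowers_iff.1 g.2
      show (g : Perm α) x = x
      rw [← hi]
      exact Perm.zpow_apply_eq_self_of_apply_eq_self hx i
  rw [hfp, show Nat.card f = 5 from hFc, Nat.card_coe_set_eq, Set.ncard_singleton] at hmod
  exact absurd hmod (by decide)

/-- The even part of an insoluble transitive group is insoluble and transitive. -/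
theorem even_part (hα : Fintype.card α = 11) (G : Subgroup (Perm α))
    [MulAction.IsPretransitive G α] (hG : ¬ Group.IsSolvable G) :
    MulAction.IsPretransitive (G ⊓ alternatingGroup α : Subgroup (Perm α)) α ∧
      ¬ Group.IsSolvable (G ⊓ alternatingGroup α : Subgroup (Perm α)) := by
  have : Fact (Nat.Prime 11) := ⟨by norm_num⟩
  have hn : Nat.card α = 11 := by rw [Nat.card_eq_fintype_card, hα]
  set χ : G →* ℤˣ := Perm.sign.comp G.subtype with hχ
  have hK : χ.ker.map G.subtype = G ⊓ alternatingGroup α := by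
    ext g
    refine ⟨?_, fun hg => ⟨⟨g, hg.1⟩, hg.2, rfl⟩⟩
    rintro ⟨v, hv, rfl⟩
    exact ⟨v.2, hv⟩
  let e : χ.ker ≃* (G ⊓ alternatingGroup α : Subgroup (Perm α)) :=
    (equivMapOfInjective χ.ker _ G.subtype_injective).trans (MulEquiv.subgroupCongr hK)
  have hsol : ¬ Group.IsSolvable χ.ker := fun h => hG (by
    have := h
    have : Group.IsSolvable χ.range := isSolvable_of_comm fun a b => Subtype.ext (mul_comm _ _)
    exact solvable_of_ker_le_range χ.ker.subtype χ.rangeRestrict
      (by rw [MonoidHom.ker_rangeRestrict, range_subtype]))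
  have hne : χ.ker ≠ ⊥ := fun h => hsol (by
    have : Subsingleton χ.ker := ⟨fun a b => Subtype.ext (by
      have ha := a.2; have hb := b.2
      simp only [h, mem_bot] at ha hb
      rw [ha, hb])⟩
    exact isSolvable_of_comm fun a b => Subsingleton.elim _ _)
  have : MulAction.IsPreprimitive G α := MulAction.IsPreprimitive.of_prime_card (hn ▸ Fact.out)
  have : FaithfulSMul G α := ⟨fun h => Subtype.ext (FaithfulSMul.eq_of_smul_eq_smul h)⟩
  have ht := SharplyTransitive.normal_transitive (α := α) χ.ker hne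
  refine ⟨⟨fun a b => ?_⟩, fun h => hsol ?_⟩
  · obtain ⟨g, hg⟩ := ht.exists_smul_eq a b
    refine ⟨e g, ?_⟩
    exact hg
  · have := h
    exact solvable_of_solvable_injective (f := e.toMonoidHom) e.injective

/-- In the case of order 7920 the group is even. -/
theorem eq_even_big (hα : Fintype.card α = 11) {G : Subgroup (Perm α)} (hG : Good G)
    [MulAction.IsPretransitive (G ⊓ alternatingGroup α : Subgroup (Perm α)) α]
    (hc : Nat.card (G ⊓ alternatingGroup α : Subgroup (Perm α)) = 7920) :
    G ≤ alternatingGroup α := by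
  classical
  have : Fact (Nat.Prime 5) := ⟨by norm_num⟩
  intro g₀ hg₀
  by_contra hodd
  set T : Subgroup (Perm α) := G ⊓ alternatingGroup α with hT
  obtain ⟨h4, hst⟩ := sharp hα (hG.mono inf_le_left) inf_le_right hc
  have huniq : ∀ t ∈ T, ∀ e : Fin 4 ↪ α, (∀ i, t (e i) = e i) → t = 1 := fun t ht e he =>
    eq_one_of_fix_four hα (hG.mono inf_le_left) inf_le_right hc ht e he
  have hmove : ∀ a b : Fin 4 ↪ α, ∃ t ∈ T, ∀ i, t (a i) = b i := fun a b => by
    obtain ⟨t, ht⟩ := h4.exists_smul_eq a b
    exact ⟨t, t.2, fun i => DFunLike.congr_fun ht i⟩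
  have hsign : ∀ v : Perm α, v ∉ alternatingGroup α → Perm.sign v = -1 := fun v hv =>
    (Int.units_eq_one_or _).resolve_left fun h => hv (Perm.mem_alternatingGroup.2 h)
  -- an odd involution fixing four points
  obtain ⟨e⟩ : Nonempty (Fin 4 ↪ α) :=
    Function.Embedding.nonempty_of_card_le (by rw [Fintype.card_fin, hα]; norm_num)
  obtain ⟨t, ht, hte⟩ := hmove ⟨fun i => g₀ (e i), g₀.injective.comp e.injective⟩ e
  set u := t * g₀ with hu'
  have huG : u ∈ G := G.mul_mem ht.1 hg₀
  have huo : u ∉ alternatingGroup α := fun h => hodd (by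
    have h1 := (alternatingGroup α).mul_mem ((alternatingGroup α).inv_mem ht.2) h
    rwa [hu', inv_mul_cancel_left] at h1)
  have hue : ∀ i, u (e i) = e i := fun i => hte i
  have hsq : ∀ v w : Perm α, v ∉ alternatingGroup α → w ∉ alternatingGroup α →
      v * w ∈ alternatingGroup α := fun v w hv hw => Perm.mem_alternatingGroup.2 (by
    rw [map_mul, hsign v hv, hsign w hw]; rfl)
  have huu : u * u = 1 := huniq _ ⟨G.mul_mem huG huG, hsq u u huo huo⟩ e fun i => by
    rw [Perm.mul_apply, hue, hue]
  have hou : orderOf u = 2 := orderOf_eq_prime (by rw [sq, huu])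
    (fun h => huo (h ▸ one_mem _))
  have hsupp : u.support.card = 6 := by
    have hf := fixed_card u
    have h4f : 4 ≤ (Finset.univ.filter fun w => u w = w).card := by
      calc 4 = (Finset.univ.map e).card := by simp
        _ ≤ _ := Finset.card_le_card (by
          intro w hw
          obtain ⟨i, -, rfl⟩ := Finset.mem_map.1 hw
          exact Finset.mem_filter.2 ⟨Finset.mem_univ _, hue i⟩)
    rcases support_of_order_two hα hG huG hou with ⟨-, h⟩ | ⟨h, -⟩
    · rw [hsign u huo] at h
      exact absurd h (by decide)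
    · omega
  -- its centraliser in the even part acts sharply on the embeddings into its fixed points
  set F := {w : α // u w = w} with hF
  have hFc : Nat.card F = 5 := by
    have hf := fixed_card u
    rw [hF, Nat.card_eq_fintype_card, Fintype.card_subtype]
    omega
  set C : Subgroup (Perm α) := T ⊓ centralizer {u} with hC
  let f : C → (Fin 4 ↪ F) := fun c => ⟨fun i => ⟨(c : Perm α) (e i),
    apply_fixed_of_commute (mem_centralizer_singleton_iff.1 c.2.2) (hue i)⟩,
    fun i j h => e.injective ((c : Perm α).injective (congrArg Subtype.val h))⟩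
  have hfb : Function.Bijective f := by
    refine ⟨fun a b h => ?_, fun b => ?_⟩
    · have h1 : ∀ i, ((a : Perm α)⁻¹ * (b : Perm α)) (e i) = e i := fun i => by
        have h2 : (a : Perm α) (e i) = (b : Perm α) (e i) :=
          congrArg Subtype.val (DFunLike.congr_fun h i)
        rw [Perm.mul_apply, ← h2, Perm.inv_def, Equiv.symm_apply_apply]
      exact Subtype.ext (inv_mul_eq_one.1
        (huniq _ (T.mul_mem (T.inv_mem a.2.1) b.2.1) e h1))
    · set b' : Fin 4 ↪ α := b.trans (Function.Embedding.subtype _) with hb'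
      obtain ⟨c, hc, hce⟩ := hmove e b'
      have hcu : c * u * c⁻¹ = u := by
        have hv : u⁻¹ * (c * u * c⁻¹) ∈ T := by
          refine ⟨G.mul_mem (G.inv_mem huG) (G.mul_mem (G.mul_mem hc.1 huG) (G.inv_mem hc.1)),
            Perm.mem_alternatingGroup.2 ?_⟩
          simp only [map_mul, map_inv, hsign u huo, Perm.mem_alternatingGroup.1 hc.2]
          rfl
        refine (inv_mul_eq_one.1 (huniq _ hv b' fun i => ?_)).symm
        simp only [Perm.mul_apply]
        rw [← hce i, Perm.inv_def (f := c), Equiv.symm_apply_apply, hue i, hce i,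
          Perm.inv_eq_iff_eq]
        exact (b i).2.symm
      exact ⟨⟨c, hc, mem_centralizer_singleton_iff.2 (mul_inv_eq_iff_eq_mul.1 hcu)⟩,
        Function.Embedding.ext fun i => Subtype.ext (hce i)⟩
  have hCc : Nat.card C = 120 := by
    rw [Nat.card_eq_of_bijective f hfb, Nat.card_eq_fintype_card, Fintype.card_embedding_eq,
      Fintype.card_fin, ← Nat.card_eq_fintype_card, hFc]
    rfl
  obtain ⟨q, hq⟩ := exists_prime_orderOf_dvd_card' 5 (show 5 ∣ Nat.card C by rw [hCc]; norm_num)
  exact fix_five_false hα hG q.2.1.1 ((Subgroup.orderOf_coe q).trans hq)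
    (mem_centralizer_singleton_iff.1 q.2.2) hsupp

/-- An even group of order 660 as above is simple. -/
theorem simple_660 (hα : Fintype.card α = 11) {T : Subgroup (Perm α)} (hT : Good T)
    (hTA : T ≤ alternatingGroup α) [MulAction.IsPretransitive T α]
    (hns : ¬ Group.IsSolvable T) (hc : Nat.card T = 660) : IsSimpleGroup T := by
  classical
  have : Fact (Nat.Prime 11) := ⟨by norm_num⟩
  have h5 : Fact (Nat.Prime 5) := ⟨by norm_num⟩
  have hn : Nat.card α = 11 := by rw [Nat.card_eq_fintype_card, hα]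
  have : Nonempty α := Fintype.card_pos_iff.1 (by omega)
  have : MulAction.IsPreprimitive T α := MulAction.IsPreprimitive.of_prime_card (hn ▸ Fact.out)
  have : FaithfulSMul T α := ⟨fun h => Subtype.ext (FaithfulSMul.eq_of_smul_eq_smul h)⟩
  have : Nontrivial T := Finite.one_lt_card_iff_nontrivial.1 (by omega)
  refine ⟨fun N hN => or_iff_not_imp_left.2 fun hN0 => ?_⟩
  have := SharplyTransitive.normal_transitive (α := α) N hN0
  have h11 : 11 ∣ Nat.card N := hn ▸ SharplyTransitive.card_dvd_of_transitive (H := N) (α := α)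
  obtain ⟨u, hu⟩ := exists_prime_orderOf_dvd_card' 11 h11
  obtain ⟨R, hR⟩ := (IsPGroup.of_card (n := 1) (by
    rw [Nat.card_zpowers, Subgroup.orderOf_coe, hu, pow_one]) :
      IsPGroup 11 (zpowers (u : T))).exists_le_sylow
  obtain ⟨hR11, hNR⟩ := (order_cases hα hT hTA inferInstance hns).2 R
  have hRN : (R : Subgroup T) ≤ N := by
    rw [← eq_of_le_of_card_ge hR (by rw [hR11, Nat.card_zpowers, Subgroup.orderOf_coe, hu])]
    exact zpowers_le.2 u.2
  have hsup : normalizer ((R : Subgroup T) : Set T) ⊔ N = ⊤ :=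
    Sylow.normalizer_sup_eq_top' R hRN
  have hd1 : N.index ∣ 55 := by
    rw [← relIndex_top_right, ← hsup, relIndex_sup_right, ← hNR]
    exact relIndex_dvd_card _ _
  have hmul := card_mul_index N
  rw [hc] at hmul
  obtain ⟨j, hj⟩ := h11
  have hd2 : N.index ∣ 60 := Dvd.intro_left j (by rw [hj, mul_assoc] at hmul; omega)
  have hd : N.index ∣ 5 := (show Nat.gcd 55 60 = 5 by norm_num) ▸ Nat.dvd_gcd hd1 hd2
  rcases (Nat.dvd_prime h5.out).1 hd with h | h
  · exact index_eq_one.1 h
  exfalso
  obtain ⟨e, he, hmod, -, hP⟩ := five_data hα hT hTA (by rw [hc]; norm_num)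
  obtain ⟨Q⟩ : Nonempty (Sylow 5 T) := inferInstance
  obtain ⟨hQ5, hC5, hN5⟩ := hP Q
  rw [hc] at hmod
  obtain rfl : e = 2 := by rcases he with rfl | rfl | rfl <;> norm_num at hmod <;> rfl
  obtain ⟨z, hzN, hzC⟩ : ∃ z ∈ normalizer ((Q : Subgroup T) : Set T),
      z ∉ centralizer ((Q : Subgroup T) : Set T) := by
    by_contra hcon
    push Not at hcon
    have := card_dvd_of_le (show normalizer ((Q : Subgroup T) : Set T) ≤ _ from hcon)
    rw [hN5, hC5] at this
    norm_num at this
  obtain ⟨v, hv, hvz⟩ : ∃ v ∈ (Q : Subgroup T), v * z ≠ z * v := by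
    by_contra hcon
    push Not at hcon
    exact hzC (mem_centralizer_iff.2 fun v hv => hcon v hv)
  have hmem : z * v * z⁻¹ * v⁻¹ ∈ (Q : Subgroup T) :=
    mul_mem ((mem_normalizer_iff.1 hzN _).1 hv) (inv_mem hv)
  have hne : z * v * z⁻¹ * v⁻¹ ≠ 1 := fun h1 => hvz (by
    rw [mul_inv_eq_one, mul_inv_eq_iff_eq_mul] at h1
    exact h1.symm)
  have hcN : z * v * z⁻¹ * v⁻¹ ∈ N := by
    have hq : Nat.card (T ⧸ N) = 5 := by rw [← index_eq_card, h]
    have : IsCyclic (T ⧸ N) := isCyclic_of_prime_card hq
    rw [← QuotientGroup.eq_one_iff]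
    have := this.isMulCommutative
    change (z : T ⧸ N) * v * (z : T ⧸ N)⁻¹ * (v : T ⧸ N)⁻¹ = 1
    rw [mul_comm' (z : T ⧸ N) (v : T ⧸ N), mul_inv_cancel_right, mul_inv_cancel]
  have ho : orderOf (z * v * z⁻¹ * v⁻¹) = 5 := by
    have h1 := Subgroup.orderOf_dvd_natCard _ hmem
    rw [hQ5] at h1
    exact ((Nat.dvd_prime h5.out).1 h1).resolve_left fun e => hne (orderOf_eq_one_iff.1 e)
  have h5N : 5 ∣ Nat.card N := ho ▸ Subgroup.orderOf_dvd_natCard N hcN
  have hN132 : Nat.card N = 132 := by rw [h] at hmul; omega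
  rw [hN132] at h5N
  norm_num at h5N

/-- In the case of order 660 the group is even. -/
theorem eq_even_small (hα : Fintype.card α = 11) {G : Subgroup (Perm α)} (hG : Good G)
    [MulAction.IsPretransitive G α]
    (hc : Nat.card (G ⊓ alternatingGroup α : Subgroup (Perm α)) = 660) :
    G ≤ alternatingGroup α := by
  classical
  intro g₀ hg₀
  by_contra hodd
  have h11 : Fact (Nat.Prime 11) := ⟨by norm_num⟩
  have h5 : Fact (Nat.Prime 5) := ⟨by norm_num⟩
  have h2 : Fact (Nat.Prime 2) := ⟨Nat.prime_two⟩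
  have hn : Nat.card α = 11 := by rw [Nat.card_eq_fintype_card, hα]
  have : FaithfulSMul G α := ⟨fun h => Subtype.ext (FaithfulSMul.eq_of_smul_eq_smul h)⟩
  set T : Subgroup (Perm α) := G ⊓ alternatingGroup α with hT
  have hTG : T ≤ G := inf_le_left
  -- the order
  set χ : G →* ℤˣ := Perm.sign.comp G.subtype with hχ
  have hrange : Nat.card χ.range = 2 := by
    have hne : χ.range ≠ ⊥ := fun h => hodd (Perm.mem_alternatingGroup.2
      (mem_bot.1 (h ▸ ⟨⟨g₀, hg₀⟩, rfl⟩ : Perm.sign g₀ ∈ (⊥ : Subgroup ℤˣ))))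
    have h1 : Nat.card χ.range ∣ 2 := by
      have := card_subgroup_dvd_card χ.range
      rwa [Nat.card_eq_fintype_card (α := ℤˣ), Fintype.card_units_int] at this
    exact ((Nat.dvd_prime Nat.prime_two).1 h1).resolve_left fun h => hne (card_eq_one.1 h)
  have hGc : Nat.card G = 1320 := by
    have h1 := χ.ker.card_mul_index
    have hK : χ.ker.map G.subtype = T := by
      ext g
      refine ⟨?_, fun hg => ⟨⟨g, hg.1⟩, hg.2, rfl⟩⟩
      rintro ⟨v, hv, rfl⟩
      exact ⟨v.2, hv⟩
    rw [index_ker, hrange, ← card_map_of_injective G.subtype_injective, hK, hc] at h1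
    omega
  obtain ⟨P⟩ : Nonempty (Sylow 11 G) := inferInstance
  have hP11 : Nat.card (P : Subgroup G) = 11 := by
    simpa using SmallOrder.card_sylow_eq_pow (a := 1) (m := 120) (by rw [hGc]; norm_num)
      (by norm_num) P
  obtain ⟨hCP, d, hd, hN⟩ := SharplyTransitive.sylow_prime_degree hn P hP11
  have hd10 : d = 10 := by
    have hmul := SmallOrder.card_sylow_mul_card_normalizer P
    rw [hN, hGc] at hmul
    have hmod := SmallOrder.card_sylow_mod (G := G) 11
    have hle := Nat.le_of_dvd (by norm_num) hd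
    interval_cases d <;> omega
  subst hd10
  set NP : Subgroup G := normalizer ((P : Subgroup G) : Set G) with hNP
  obtain ⟨x⟩ : Nonempty α := Fintype.card_pos_iff.1 (by omega)
  -- `P` is regular
  have hreg : ∀ p ∈ (P : Subgroup G), (p : Perm α) x = x → p = 1 := by
    intro p hp hpx
    by_contra hne
    have ho : orderOf p = 11 := by
      have h1 := Subgroup.orderOf_dvd_natCard _ hp
      rw [hP11] at h1
      exact ((Nat.dvd_prime h11.out).1 h1).resolve_left fun e => hne (orderOf_eq_one_iff.1 e)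
    obtain ⟨k, hk, hs, -⟩ := prime_dvd_support (σ := (p : Perm α)) h11.out
      (by rw [Subgroup.orderOf_coe, ho])
    have hle : (p : Perm α).support.card ≤ 11 := hα ▸ (p : Perm α).support.card_le_univ
    obtain rfl : k = 1 := by omega
    exact Perm.mem_support.1 (by
      rw [Finset.eq_univ_of_card (p : Perm α).support (by omega)]; exact Finset.mem_univ x) hpx
  have hPx : ∀ y : α, ∃ p ∈ (P : Subgroup G), (p : Perm α) x = y := by
    intro y
    have hb : Function.Bijective fun p : (P : Subgroup G) => ((p : G) : Perm α) x := by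
      refine (Nat.bijective_iff_injective_and_card _).2 ⟨fun a b h => ?_, by rw [hP11, hn]⟩
      refine inv_mul_eq_one.1 (Subtype.ext (hreg _ (a⁻¹ * b).2 ?_))
      show ((a : G) : Perm α)⁻¹ (((b : G) : Perm α) x) = x
      rw [Perm.inv_eq_iff_eq]
      exact h.symm
    obtain ⟨p, hp⟩ := hb.2 y
    exact ⟨p, p.2, hp⟩
  set S : Subgroup NP := MulAction.stabilizer NP x with hS
  have hS10 : Nat.card S = 10 := by
    have h1 := S.card_mul_index
    rw [hS, MulAction.index_stabilizer, show MulAction.orbit NP x = Set.univ from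
      Set.eq_univ_of_forall fun y => by
        obtain ⟨p, hp, hpy⟩ := hPx y
        exact ⟨⟨p, le_normalizer hp⟩, hpy⟩, Set.ncard_univ, hn, hN] at h1
    rw [hS]
    omega
  have hScomm : ∀ a b : S, a * b = b * a := by
    intro a b
    have hcyc : IsCyclic (MulAut (P : Subgroup G)) := by
      have := isCyclic_of_prime_card hP11
      have : Fact (Nat.Prime (Nat.card (P : Subgroup G))) := ⟨by rw [hP11]; exact h11.out⟩
      exact isCyclic_of_surjective _
        (IsCyclic.mulAutMulEquiv (G := (P : Subgroup G))).symm.surjective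
    let r : S →* MulAut (P : Subgroup G) := (P : Subgroup G).normalizerMonoidHom.comp S.subtype
    have hinj : Function.Injective r := by
      rw [← MonoidHom.ker_eq_bot_iff, eq_bot_iff]
      intro s hs
      have h1 : (s : NP) ∈ (P : Subgroup G).normalizerMonoidHom.ker := hs
      rw [normalizerMonoidHom_ker] at h1
      exact Subtype.ext (Subtype.ext (hreg _ (hCP h1) s.2))
    apply hinj
    have := hcyc.isMulCommutative
    rw [map_mul, map_mul, mul_comm']
  obtain ⟨zs, hzs⟩ := exists_prime_orderOf_dvd_card' (G := S) 2 (by rw [hS10]; norm_num)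
  obtain ⟨qs, hqs⟩ := exists_prime_orderOf_dvd_card' (G := S) 5 (by rw [hS10]; norm_num)
  set z : Perm α := (((zs : NP) : G) : Perm α) with hz
  set q : Perm α := (((qs : NP) : G) : Perm α) with hq
  have hzo : orderOf z = 2 := by
    rw [hz, Subgroup.orderOf_coe, Subgroup.orderOf_coe, Subgroup.orderOf_coe, hzs]
  have hqo : orderOf q = 5 := by
    rw [hq, Subgroup.orderOf_coe, Subgroup.orderOf_coe, Subgroup.orderOf_coe, hqs]
  have hzq : z * q = q * z := congrArg (fun w : S => (((w : NP) : G) : Perm α)) (hScomm zs qs)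
  have hzG : z ∈ G := ((zs : NP) : G).2
  have hqG : q ∈ G := ((qs : NP) : G).2
  have hzx : z x = x := zs.2
  have hqx : q x = x := qs.2
  have hqA : q ∈ alternatingGroup α := Perm.mem_alternatingGroup.2 (by
    have h1 : Perm.sign q ^ 5 = 1 := by rw [← map_pow, ← hqo, pow_orderOf_eq_one, map_one]
    rcases Int.units_eq_one_or (Perm.sign q) with h | h
    · exact h
    · rw [h] at h1; exact absurd h1 (by decide))
  -- the even stabiliser has six Sylow 5-subgroups
  set A : Subgroup (Perm α) := T ⊓ MulAction.stabilizer (Perm α) x with hA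
  set B : Subgroup (Perm α) := G ⊓ MulAction.stabilizer (Perm α) x with hB
  have hAB : A ≤ B := inf_le_inf_right _ hTG
  have hAG : Good A := hG.mono (inf_le_left.trans hTG)
  have hAA : A ≤ alternatingGroup α := inf_le_left.trans inf_le_right
  have hBc : Nat.card B = 120 := by
    have h1 := (MulAction.stabilizer G x).card_mul_index
    rw [MulAction.index_stabilizer_of_transitive, hn, hGc] at h1
    have h2 : (MulAction.stabilizer G x).map G.subtype = B := by
      ext u
      refine ⟨?_, fun hu => ⟨⟨u, hu.1⟩, hu.2, rfl⟩⟩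
      rintro ⟨v, hv, rfl⟩
      exact ⟨v.2, hv⟩
    rw [← h2, card_map_of_injective G.subtype_injective]
    omega
  have hTt : MulAction.IsPretransitive T α := ⟨fun a b => by
    obtain ⟨p, hp, hpa⟩ := hPx a
    obtain ⟨p', hp', hpb⟩ := hPx b
    have heven : ∀ w ∈ (P : Subgroup G), (w : Perm α) ∈ alternatingGroup α := fun w hw =>
      Perm.mem_alternatingGroup.2 (by
        have h1 : Perm.sign (w : Perm α) ^ 11 = 1 := by
          have h3 := Subgroup.orderOf_dvd_natCard _ hw
          rw [hP11] at h3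
          rw [← map_pow, ← SubgroupClass.coe_pow, orderOf_dvd_iff_pow_eq_one.1 h3,
            OneMemClass.coe_one, map_one]
        rcases Int.units_eq_one_or (Perm.sign (w : Perm α)) with h | h
        · exact h
        · rw [h] at h1; exact absurd h1 (by decide))
    refine ⟨⟨((p' * p⁻¹ : G) : Perm α), (p' * p⁻¹).2, heven _ (mul_mem hp' (inv_mem hp))⟩, ?_⟩
    show (p' : Perm α) ((p : Perm α)⁻¹ a) = b
    rw [← hpa, Perm.inv_def, Equiv.symm_apply_apply, hpb]⟩
  have hAc : Nat.card A = 60 := by
    have h1 := (MulAction.stabilizer T x).card_mul_index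
    rw [MulAction.index_stabilizer_of_transitive, hn, hc] at h1
    have h2 : (MulAction.stabilizer T x).map T.subtype = A := by
      ext u
      refine ⟨?_, fun hu => ⟨⟨u, hu.1⟩, hu.2, rfl⟩⟩
      rintro ⟨v, hv, rfl⟩
      exact ⟨v.2, hv⟩
    rw [← h2, card_map_of_injective T.subtype_injective]
    omega
  obtain ⟨e, he, hmod, -, hA5⟩ := five_data hα hAG hAA (by rw [hAc]; norm_num)
  rw [hAc] at hmod
  obtain rfl : e = 2 := by rcases he with rfl | rfl | rfl <;> norm_num at hmod <;> rfl
  -- `B` acts on them by conjugation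
  let AB : Subgroup B := A.subgroupOf B
  have hABn : AB.Normal := ⟨fun a ha g => by
    refine ⟨⟨?_, ?_⟩, ?_⟩
    · exact (g * a * g⁻¹).2.1
    · show ((g * a * g⁻¹ : B) : Perm α) ∈ alternatingGroup α
      refine Perm.mem_alternatingGroup.2 ?_
      simp [map_mul, Perm.mem_alternatingGroup.1 (show (a : Perm α) ∈ A from ha).1.2]
    · exact (g * a * g⁻¹).2.2⟩
  have eA : AB ≃* A := subgroupOfEquivOfLe hAB
  have hB5 : ∀ Q : Sylow 5 B, Nat.card (Q : Subgroup B) = 5 := fun Q => by
    simpa using SmallOrder.card_sylow_eq_pow (a := 1) (m := 24) (by rw [hBc]; norm_num)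
      (by norm_num) Q
  have hBA : ∀ Q : Sylow 5 B, (Q : Subgroup B) ≤ AB := fun Q w hw => by
    show ((w : B) : Perm α) ∈ A
    refine ⟨⟨w.2.1, Perm.mem_alternatingGroup.2 ?_⟩, w.2.2⟩
    have h1 : Perm.sign (w : Perm α) ^ 5 = 1 := by
      have h3 := Subgroup.orderOf_dvd_natCard _ hw
      rw [hB5] at h3
      rw [← map_pow, ← SubgroupClass.coe_pow, orderOf_dvd_iff_pow_eq_one.1 h3,
        OneMemClass.coe_one, map_one]
    rcases Int.units_eq_one_or (Perm.sign (w : Perm α)) with h | h
    · exact h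
    · rw [h] at h1; exact absurd h1 (by decide)
  have hn6 : Nat.card (Sylow 5 B) = 6 := by
    obtain ⟨Q⟩ : Nonempty (Sylow 5 B) := inferInstance
    have hd := SmallOrder.card_sylow_dvd (G := B) (p := 5) (a := 1) (m := 24)
      (by rw [hBc]; norm_num) (by norm_num)
    have hm := SmallOrder.card_sylow_mod (G := B) 5
    have hle := Nat.le_of_dvd (by norm_num) hd
    rcases (show Nat.card (Sylow 5 B) = 1 ∨ Nat.card (Sylow 5 B) = 6 by
      interval_cases h : Nat.card (Sylow 5 B) <;> omega) with h1 | h6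
    · exfalso
      have hsub : Subsingleton (Sylow 5 B) := (Nat.card_eq_one_iff_unique.1 h1).1
      have hQn : (Q : Subgroup B).Normal := Sylow.normal_of_subsingleton Q
      set QA : Subgroup A := ((Q : Subgroup B).subgroupOf AB).map eA.toMonoidHom with hQA
      have hQA5 : Nat.card QA = 5 := by
        rw [hQA, card_map_of_injective eA.injective,
          Nat.card_congr (subgroupOfEquivOfLe (hBA Q)).toEquiv, hB5]
      have hQAn : QA.Normal := (hQn.subgroupOf AB).map _ eA.surjective
      obtain ⟨R, hR⟩ := (IsPGroup.of_card (n := 1) (by rw [hQA5, pow_one]) :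
        IsPGroup 5 QA).exists_le_sylow
      have hRe : QA = (R : Subgroup A) := eq_of_le_of_card_ge hR (by rw [hQA5, (hA5 R).1])
      have h3 := (hA5 R).2.2
      rw [← hRe, normalizer_eq_top_iff.2 hQAn, card_top, hAc] at h3
      norm_num at h3
    · exact h6
  let qB : B := ⟨q, hqG, hqx⟩
  let zB : B := ⟨z, hzG, hzx⟩
  have hqBo : orderOf qB = 5 := by rw [← Subgroup.orderOf_coe]; exact hqo
  obtain ⟨Q, hQ⟩ := (IsPGroup.of_card (n := 1) (by rw [Nat.card_zpowers, hqBo, pow_one]) :
    IsPGroup 5 (zpowers qB)).exists_le_sylow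
  have hQq : zpowers qB = (Q : Subgroup B) :=
    eq_of_le_of_card_ge hQ (by rw [hB5, Nat.card_zpowers, hqBo])
  have hzqB : Commute zB qB := Subtype.ext hzq
  -- `zB` normalises every Sylow 5-subgroup
  have hzQ : zB • Q = Q := by
    apply Sylow.smul_eq_iff_mem_normalizer.2
    rw [← Sylow.coe_coe, ← hQq]
    exact centralizer_le_normalizer _ (by
      rw [zpowers_eq_closure, centralizer_closure, mem_centralizer_singleton_iff]
      exact hzqB)
  have hzz : zB * zB = 1 := Subtype.ext (by
    show z * z = 1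
    rw [← sq, ← hzo, pow_orderOf_eq_one])
  have hfix : ∀ R : Sylow 5 B, zB • R = R := by
    let σ : Perm (Sylow 5 B) := MulAction.toPerm zB
    have hσ : σ ^ 2 = 1 := Equiv.ext fun R => by
      rw [sq, Perm.mul_apply]
      show zB • zB • R = R
      rw [← mul_smul, hzz, one_smul]
    obtain ⟨R', hR', hR'Q⟩ : ∃ R', zB • R' = R' ∧ R' ≠ Q := by
      by_contra hcon
      push Not at hcon
      obtain ⟨i, hi⟩ := SmallOrder.cycleType_of_pow_eq_one (hp := h2) hσ
      have hsupp : σ.support = Finset.univ.erase Q := by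
        ext R
        simp only [Perm.mem_support, Finset.mem_erase, Finset.mem_univ, and_true, ne_eq]
        exact not_congr ⟨fun h => hcon R h, fun h => by subst h; exact hzQ⟩
      have h1 := σ.sum_cycleType
      rw [hi, Multiset.sum_replicate, hsupp, Finset.card_erase_of_mem (Finset.mem_univ _),
        Finset.card_univ, ← Nat.card_eq_fintype_card, hn6, smul_eq_mul] at h1
      omega
    intro R
    by_cases hRQ : R = Q
    · rw [hRQ]; exact hzQ
    have horb : MulAction.orbit (zpowers qB) R' = {Q}ᶜ := by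
      have hqQ : ∀ g : zpowers qB, (g : B) • Q = Q := fun g =>
        Sylow.smul_eq_iff_mem_normalizer.2 (le_normalizer (hQ g.2))
      refine Set.eq_of_subset_of_ncard_le ?_ ?_ (Set.toFinite _)
      · rintro _ ⟨g, rfl⟩ (h : (g : B) • R' = Q)
        exact hR'Q (MulAction.injective (g : B) (h.trans (hqQ g).symm))
      · rw [Set.ncard_compl, Set.ncard_singleton, hn6]
        obtain ⟨k, hk⟩ := (IsPGroup.of_card (n := 1) (by
          rw [Nat.card_zpowers, hqBo, pow_one]) : IsPGroup 5 (zpowers qB)).card_orbit R'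
        rw [Nat.card_coe_set_eq] at hk
        rcases k with _ | k
        · exfalso
          rw [pow_zero, Set.ncard_eq_one] at hk
          obtain ⟨v, hv⟩ := hk
          have m0 := MulAction.mem_orbit_self (M := zpowers qB) R'
          have m1 : qB • R' ∈ MulAction.orbit (zpowers qB) R' := ⟨⟨qB, mem_zpowers _⟩, rfl⟩
          rw [hv, Set.mem_singleton_iff] at m0 m1
          have hmem : qB ∈ normalizer ((R' : Subgroup B) : Set B) :=
            Sylow.smul_eq_iff_mem_normalizer.1 (m1.trans m0.symm)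
          have hle : zpowers qB ≤ (R' : Subgroup B) := by
            have h9 := IsPGroup.inf_normalizer_sylow (IsPGroup.of_card (n := 1) (by
              rw [Nat.card_zpowers, hqBo, pow_one]) : IsPGroup 5 (zpowers qB)) R'
            exact ((le_inf le_rfl (zpowers_le.2 hmem)).trans h9.le).trans inf_le_right
          exact hR'Q (Sylow.ext ((eq_of_le_of_card_ge hle
            (by rw [hB5, Nat.card_zpowers, hqBo])).symm.trans hQq))
        · rw [hk]
          calc 5 = 5 ^ 1 := (pow_one 5).symm
            _ ≤ _ := Nat.pow_le_pow_right (by norm_num) (by omega)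
    obtain ⟨g, hg⟩ := (horb.symm ▸ (show R ∈ ({Q}ᶜ : Set (Sylow 5 B)) from hRQ) :
      R ∈ MulAction.orbit (zpowers qB) R')
    obtain ⟨i, hi⟩ := mem_zpowers_iff.1 g.2
    have hg' : (g : B) • R' = R := hg
    rw [← hg', ← hi, ← mul_smul, (hzqB.zpow_right i).eq, mul_smul, hR']
  -- hence it centralises `B`
  let W : Subgroup B := (MulAction.toPermHom B (Sylow 5 B)).ker
  have hWmem : ∀ w : B, w ∈ W ↔ ∀ R : Sylow 5 B, w • R = R := fun w => by
    show MulAction.toPermHom B (Sylow 5 B) w = 1 ↔ _
    rw [Equiv.ext_iff]; rfl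
  have hW5 : ¬ 5 ∣ Nat.card W := fun h => by
    obtain ⟨w, hw⟩ := exists_prime_orderOf_dvd_card' 5 h
    have hwo : orderOf (w : B) = 5 := (Subgroup.orderOf_coe w).trans hw
    have hall : ∀ R : Sylow 5 B, zpowers (w : B) = (R : Subgroup B) := fun R => by
      have hmem : (w : B) ∈ normalizer ((R : Subgroup B) : Set B) :=
        Sylow.smul_eq_iff_mem_normalizer.1 ((hWmem _).1 w.2 R)
      refine eq_of_le_of_card_ge ?_ (by rw [hB5, Nat.card_zpowers, hwo])
      have := (IsPGroup.of_card (n := 1) (by rw [Nat.card_zpowers, hwo, pow_one]) :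
        IsPGroup 5 (zpowers (w : B)))
      calc zpowers (w : B) ≤ zpowers (w : B) ⊓ normalizer ((R : Subgroup B) : Set B) :=
            le_inf le_rfl (zpowers_le.2 hmem)
        _ = zpowers (w : B) ⊓ R := IsPGroup.inf_normalizer_sylow this R
        _ ≤ _ := inf_le_right
    have : Subsingleton (Sylow 5 B) := ⟨fun a b => Sylow.ext ((hall a).symm.trans (hall b))⟩
    have := Nat.card_of_subsingleton Q
    omega
  have hWC : ∀ w ∈ W, Commute w qB := by
    intro w hw
    have hmemN : w ∈ normalizer ((Q : Subgroup B) : Set B) :=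
      Sylow.smul_eq_iff_mem_normalizer.1 ((hWmem w).1 hw Q)
    have hqQ : qB ∈ (Q : Subgroup B) := hQ (mem_zpowers _)
    have h1 : w * qB * w⁻¹ * qB⁻¹ ∈ W ⊓ (Q : Subgroup B) := by
      refine mem_inf.2 ⟨?_, mul_mem ((mem_normalizer_iff.1 hmemN _).1 hqQ) (inv_mem hqQ)⟩
      rw [mul_assoc, mul_assoc, ← mul_assoc qB]
      exact W.mul_mem hw ((MonoidHom.normal_ker _).conj_mem _ (W.inv_mem hw) qB)
    have hbot : W ⊓ (Q : Subgroup B) = ⊥ := inf_eq_bot_of_coprime (by
      rw [hB5]
      exact ((Nat.Prime.coprime_iff_not_dvd h5.out).2 hW5).symm)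
    rw [hbot, mem_bot, mul_inv_eq_one, mul_inv_eq_iff_eq_mul] at h1
    exact h1
  have hWeven : ∀ w ∈ W, (w : Perm α) ∈ alternatingGroup α → w = 1 := by
    intro w hw hwe
    let wA : A := ⟨w, ⟨w.2.1, hwe⟩, w.2.2⟩
    let qA : A := ⟨q, ⟨hqG, hqA⟩, hqx⟩
    have hmem : wA ∈ centralizer ({qA} : Set A) :=
      mem_centralizer_singleton_iff.2 (Subtype.ext (congrArg Subtype.val (hWC w hw) :))
    have h1 := Subgroup.orderOf_dvd_natCard _ hmem
    rw [card_centralizer_five hα hAG hAA qA (by rw [← Subgroup.orderOf_coe]; exact hqo)] at h1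
    have h3 : orderOf w ∣ 5 := by
      rw [← Subgroup.orderOf_coe] at h1 ⊢
      exact h1
    have h4 := Subgroup.orderOf_dvd_natCard _ hw
    exact orderOf_eq_one_iff.1 (Nat.eq_one_of_dvd_coprimes
      ((Nat.Prime.coprime_iff_not_dvd h5.out).2 hW5) h3 h4)
  have hsz : Perm.sign z = -1 := by
    refine (Int.units_eq_one_or _).resolve_left fun h => ?_
    have := congrArg Subtype.val (hWeven zB ((hWmem zB).2 hfix) (Perm.mem_alternatingGroup.2 h))
    rw [show z = 1 from this, orderOf_one] at hzo
    norm_num at hzo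
  have hcent : ∀ b : B, Commute b zB := by
    intro b
    have hmem : b * zB * b⁻¹ * zB⁻¹ ∈ W :=
      W.mul_mem ((MonoidHom.normal_ker _).conj_mem _ ((hWmem zB).2 hfix) b)
        (W.inv_mem ((hWmem zB).2 hfix))
    have h1 := hWeven _ hmem (Perm.mem_alternatingGroup.2 (by
      simp [map_mul, show ((zB : B) : Perm α) = z from rfl, hsz]))
    rw [mul_inv_eq_one, mul_inv_eq_iff_eq_mul] at h1
    exact h1
  -- so every member normalises `P`
  obtain ⟨p, hpP, hp1⟩ : ∃ p ∈ (P : Subgroup G), p ≠ 1 := by
    by_contra hcon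
    push Not at hcon
    have hb : (P : Subgroup G) = ⊥ := (eq_bot_iff_forall _).2 hcon
    rw [hb, card_bot] at hP11
    norm_num at hP11
  set zG : G := ((zs : NP) : G) with hzG'
  have hzN : zG ∈ NP := (zs : NP).2
  set c : G := p * zG * p⁻¹ * zG⁻¹ with hc'
  have hcP : c ∈ (P : Subgroup G) := by
    rw [hc', mul_assoc, mul_assoc]
    refine mul_mem hpP ?_
    rw [← mul_assoc]
    exact (mem_normalizer_iff.1 hzN _).1 (inv_mem hpP)
  have hc1 : c ≠ 1 := by
    intro h
    rw [hc', mul_inv_eq_one, mul_inv_eq_iff_eq_mul] at h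
    apply hp1
    have hmem : zG ∈ centralizer ((P : Subgroup G) : Set G) := by
      have hzp : zpowers p = (P : Subgroup G) := eq_of_le_of_card_ge (zpowers_le.2 hpP) (by
        have h1 := Subgroup.orderOf_dvd_natCard _ hpP
        rw [hP11] at h1
        rw [hP11, Nat.card_zpowers, ((Nat.dvd_prime h11.out).1 h1).resolve_left
          fun e => hp1 (orderOf_eq_one_iff.1 e)])
      rw [← hzp, zpowers_eq_closure, centralizer_closure, mem_centralizer_singleton_iff]
      exact h.symm
    have h3 : zG = 1 := hreg _ (hCP hmem) hzx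
    rw [show z = ((zG : G) : Perm α) from rfl, h3, OneMemClass.coe_one, orderOf_one] at hzo
    norm_num at hzo
  have hzP : ∀ g : G, g * zG * g⁻¹ ∈ NP := by
    intro g
    obtain ⟨r, hr, hrx⟩ := hPx ((g : Perm α) x)
    have hb : ((r⁻¹ * g : G) : Perm α) ∈ B := ⟨(r⁻¹ * g).2, by
      show (r : Perm α)⁻¹ ((g : Perm α) x) = x
      rw [Perm.inv_eq_iff_eq, hrx]⟩
    have hcz : (r⁻¹ * g) * zG = zG * (r⁻¹ * g) :=
      Subtype.ext (congrArg Subtype.val (hcent ⟨_, hb⟩) :)
    rw [show g * zG * g⁻¹ = r * ((r⁻¹ * g) * zG * (r⁻¹ * g)⁻¹) * r⁻¹ by group, hcz,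
      mul_inv_cancel_right]
    exact NP.mul_mem (NP.mul_mem (le_normalizer hr) hzN) (NP.inv_mem (le_normalizer hr))
  have hall : ∀ g : G, g * c * g⁻¹ ∈ (P : Subgroup G) := by
    intro g
    have hN' : g * c * g⁻¹ ∈ NP := by
      rw [show g * c * g⁻¹ = (g * p) * zG * (g * p)⁻¹ * (g * zG * g⁻¹)⁻¹ by rw [hc']; group]
      exact NP.mul_mem (hzP _) (NP.inv_mem (hzP g))
    have hpg : IsPGroup 11 (zpowers (g * c * g⁻¹)) := by
      refine IsPGroup.of_card (n := 1) ?_
      rw [Nat.card_zpowers, ← MulAut.conj_apply, MulEquiv.orderOf_eq, pow_one]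
      have h1 := Subgroup.orderOf_dvd_natCard _ hcP
      rw [hP11] at h1
      exact ((Nat.dvd_prime h11.out).1 h1).resolve_left fun e => hc1 (orderOf_eq_one_iff.1 e)
    have hle : zpowers (g * c * g⁻¹) ≤ (P : Subgroup G) := calc
      _ ≤ zpowers (g * c * g⁻¹) ⊓ normalizer ((P : Subgroup G) : Set G) :=
          le_inf le_rfl (zpowers_le.2 hN')
      _ = zpowers (g * c * g⁻¹) ⊓ P := IsPGroup.inf_normalizer_sylow hpg P
      _ ≤ _ := inf_le_right
    exact hle (mem_zpowers _)
  have hzc : zpowers c = (P : Subgroup G) := eq_of_le_of_card_ge (zpowers_le.2 hcP) (by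
    have h1 := Subgroup.orderOf_dvd_natCard _ hcP
    rw [hP11] at h1
    rw [hP11, Nat.card_zpowers, ((Nat.dvd_prime h11.out).1 h1).resolve_left
      fun e => hc1 (orderOf_eq_one_iff.1 e)])
  have hnorm : (P : Subgroup G).Normal := ⟨fun w hw g => by
    rw [← hzc] at hw
    obtain ⟨i, rfl⟩ := mem_zpowers_iff.1 hw
    rw [← conj_zpow]
    exact zpow_mem (hall g) i⟩
  have : Nat.card NP = 1320 := by rw [hNP, normalizer_eq_top_iff.2 hnorm, card_top, hGc]
  rw [hN] at this
  norm_num at this

end Cfsg.Agent.DegreeEleven
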