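import Cfsg.Agent.DegreeEleven.Stab

/-!
# An even group of degree eleven of order 7920 is sharply four times transitive
-/

set_option autoImplicit false

namespace Cfsg.Agent.DegreeEleven

open Equiv Subgroup

variable {α : Type*} [Fintype α] [DecidableEq α]

/-- In a simple group of order 360 fixing `x`, the 3-elements fixing a second point `y` form a
group of order nine which fixes no third point. -/
theorem three_data (hα : Fintype.card α = 11) {L : Subgroup (Perm α)} (hL : Good L)
    [IsSimpleGroup L] (hc : Nat.card L = 360) {x : α} (hx : ∀ g ∈ L, g x = x)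
    {y : α} (hy : y ≠ x) :
    ∃ R : Subgroup (Perm α), R ≤ L ∧ Nat.card R = 9 ∧ (∀ r ∈ R, r y = y) ∧
      (∀ r ∈ R, r ≠ 1 → ∀ w, r w = w → w = x ∨ w = y) ∧
      ∀ r ∈ L, r y = y → r ^ 9 = 1 → r ∈ R := by
  classical
  have h3 : Fact (Nat.Prime 3) := ⟨Nat.prime_three⟩
  -- each Sylow 3-subgroup fixes exactly one point other than `x`
  have hfix : ∀ P : Sylow 3 L, ∃ z, z ≠ x ∧ (∀ r ∈ (P : Subgroup L), (r : Perm α) z = z) ∧
      ∀ w, (∀ r ∈ (P : Subgroup L), (r : Perm α) w = w) → w = x ∨ w = z := by
    intro P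
    have h9 := SmallOrder.Order360.card_sylow_three hc P
    set F : Set α := MulAction.fixedPoints (P : Subgroup L) α with hF
    have hmem : ∀ w, w ∈ F ↔ ∀ r ∈ (P : Subgroup L), (r : Perm α) w = w := fun w =>
      ⟨fun h r hr => h ⟨r, hr⟩, fun h r => h r.1 r.2⟩
    have hmod : Fintype.card α ≡ Nat.card F [MOD 3] := by
      rw [← Nat.card_eq_fintype_card]
      exact P.isPGroup'.card_modEq_card_fixedPoints α
    rw [hα, Nat.ModEq] at hmod
    have hxF : x ∈ F := (hmem x).2 fun r _ => hx _ r.2
    have hF2 : Nat.card F < 5 := by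
      by_contra hlt
      set M : Finset α := Finset.univ.filter fun w => w ∉ F with hM
      have hMc : M.card ≤ 6 := by
        have h1 : (Finset.univ.filter fun w => w ∈ F).card + M.card = Fintype.card α :=
          Finset.card_filter_add_card_filter_not _
        have h2 : (Finset.univ.filter fun w => w ∈ F).card = Nat.card F := by
          rw [Nat.card_eq_fintype_card]; exact (Fintype.card_subtype _).symm
        omega
      have hsub : ∀ r ∈ (P : Subgroup L), (r : Perm α).support ⊆ M := fun r hr w hw => by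
        refine Finset.mem_filter.2 ⟨Finset.mem_univ _, fun h => ?_⟩
        exact Perm.mem_support.1 hw ((hmem w).1 h r hr)
      have hall : ∀ u ∈ (P : Subgroup L), orderOf (u : Perm α) = 3 →
          (u : Perm α).support = M := by
        intro u hu ho
        obtain ⟨k, hk, hs, hcy⟩ := prime_dvd_support Nat.prime_three ho
        refine Finset.eq_of_subset_of_card_le (hsub u hu) ?_
        rcases (show k = 1 ∨ 2 ≤ k by omega) with rfl | hk2
        · have := hL _ u.2 (Perm.card_cycleType_eq_one.1 hcy) (by rw [hs]; norm_num)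
          omega
        · omega
      obtain ⟨u, hu⟩ := exists_prime_orderOf_dvd_card' 3 (h9 ▸ (by norm_num) : 3 ∣ Nat.card P)
      have hu' : orderOf ((u : L) : Perm α) = 3 := by
        rw [Subgroup.orderOf_coe, Subgroup.orderOf_coe, hu]
      obtain ⟨w, hw⟩ : M.Nonempty := by
        rw [← hall _ u.2 hu']
        by_contra h
        have h1 := Perm.support_eq_empty_iff.1 (Finset.not_nonempty_iff_eq_empty.1 h)
        rw [h1, orderOf_one] at hu'
        norm_num at hu'
      have hinj : Function.Injective fun r : (P : Subgroup L) =>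
          (⟨((r : L) : Perm α) w, by
            refine Finset.mem_filter.2 ⟨Finset.mem_univ _, fun h => (Finset.mem_filter.1 hw).2 ?_⟩
            refine (hmem w).2 fun s hs => ((r : L) : Perm α).injective ?_
            have hcomm := SmallOrder.Order360.sylow_three_comm hc P (r : L) s r.2 hs
            calc ((r : L) : Perm α) ((s : Perm α) w) = (((r : L) * s : L) : Perm α) w := rfl
              _ = ((s * (r : L) : L) : Perm α) w := by rw [hcomm]
              _ = _ := (hmem _).1 h s hs⟩ : M) := by
        intro a b hab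
        have hab' : ((a : L) : Perm α) w = ((b : L) : Perm α) w := congrArg Subtype.val hab
        by_contra hne
        set d : (P : Subgroup L) := a⁻¹ * b with hd
        have hdw : ((d : L) : Perm α) w = w := by
          show ((a : L) : Perm α)⁻¹ (((b : L) : Perm α) w) = w
          rw [← hab', Perm.inv_def, Equiv.symm_apply_apply]
        have hd1 : d ≠ 1 := fun e => hne (inv_mul_eq_one.1 e)
        have hd9 : orderOf d ∣ 3 ^ 2 := (h9 ▸ orderOf_dvd_natCard d : orderOf d ∣ 9)
        obtain ⟨i, hi, hio⟩ := (Nat.dvd_prime_pow Nat.prime_three).1 hd9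
        have hi0 : i ≠ 0 := fun e => by
          rw [e, pow_zero, orderOf_eq_one_iff] at hio; exact hd1 hio
        have hd3 : orderOf (d ^ 3 ^ (i - 1)) = 3 := by
          rw [orderOf_pow_of_dvd (by positivity) (hio ▸ pow_dvd_pow 3 (by omega)), hio,
            Nat.pow_div (by omega) (by norm_num), show i - (i - 1) = 1 by omega, pow_one]
        have hd' : orderOf (((d ^ 3 ^ (i - 1) : (P : Subgroup L)) : L) : Perm α) = 3 := by
          rw [Subgroup.orderOf_coe, Subgroup.orderOf_coe, hd3]
        have hmv : w ∈ ((((d ^ 3 ^ (i - 1) : (P : Subgroup L)) : L) : Perm α)).support := by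
          rw [hall _ (d ^ 3 ^ (i - 1)).2 hd']; exact hw
        refine Perm.mem_support.1 hmv ?_
        rw [SubgroupClass.coe_pow, SubgroupClass.coe_pow]
        exact Perm.pow_apply_eq_self_of_apply_eq_self hdw _
      have := Nat.card_le_card_of_injective _ hinj
      rw [h9, Nat.card_eq_fintype_card, Fintype.card_coe] at this
      omega
    have hF2' : Nat.card F = 2 := by omega
    rw [Nat.card_coe_set_eq, Set.ncard_eq_two] at hF2'
    obtain ⟨a, b, hab, he⟩ := hF2'
    rw [he] at hxF
    rcases hxF with rfl | rfl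
    · exact ⟨b, hab.symm, (hmem b).1 (by rw [he]; simp),
        fun w hw => by simpa [he] using (hmem w).2 hw⟩
    · exact ⟨a, hab, (hmem a).1 (by rw [he]; simp),
        fun w hw => (by simpa [he] using (hmem w).2 hw : w = a ∨ w = _).symm⟩
  choose f hf hfP hfu using hfix
  have hfg : ∀ (g : L) (P : Sylow 3 L), f (g • P) = (g : Perm α) (f P) := by
    intro g P
    refine ((hfu (g • P) ((g : Perm α) (f P)) ?_).resolve_left ?_).symm
    · intro r hr
      rw [Sylow.coe_subgroup_smul, Subgroup.mem_pointwise_smul_iff_inv_smul_mem] at hr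
      have h1 := hfP P _ hr
      simp only [MulAut.smul_def, MulAut.conj_inv_apply, Subgroup.coe_mul, InvMemClass.coe_inv,
        Perm.mul_apply] at h1
      exact Perm.inv_eq_iff_eq.1 h1 |>.symm ▸ rfl
    · exact fun e => hf P ((g : Perm α).injective (e.trans (hx _ g.2).symm))
  have hsurj : ∀ z, z ≠ x → ∃ P, f P = z := by
    intro z hz
    obtain ⟨P⟩ : Nonempty (Sylow 3 L) := inferInstance
    obtain ⟨g, hg, e⟩ := transitive_of_big hα hL hx (by rw [hc]; norm_num) (by rw [hc]; norm_num)
      (hf P) hz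
    exact ⟨(⟨g, hg⟩ : L) • P, (hfg _ P).trans e⟩
  have hfinj : Function.Injective f := by
    have hb : Function.Bijective fun P => (⟨f P, hf P⟩ : {z // z ≠ x}) := by
      refine (Nat.bijective_iff_surjective_and_card _).2 ⟨fun z => ?_, ?_⟩
      · obtain ⟨P, hP⟩ := hsurj z z.2
        exact ⟨P, Subtype.ext hP⟩
      · rw [SmallOrder.Order360.sylow_three_card hc, Nat.card_eq_fintype_card,
          Fintype.card_subtype_compl, hα, Fintype.card_subtype_eq]
    exact fun P Q h => hb.1 (Subtype.ext h)
  -- the stabiliser of a second point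
  have hstab : ∀ z, z ≠ x → Nat.card (MulAction.stabilizer L z) = 36 := by
    intro z hz
    have h1 := (MulAction.stabilizer L z).card_mul_index
    have horb : MulAction.orbit L z = {x}ᶜ := by
      ext w
      refine ⟨?_, fun hw => ?_⟩
      · rintro ⟨g, rfl⟩ h
        exact hz ((g : Perm α).injective (h.trans (hx _ g.2).symm))
      · obtain ⟨g, hg, e⟩ := transitive_of_big hα hL hx (by rw [hc]; norm_num)
          (by rw [hc]; norm_num) hz hw
        exact ⟨⟨g, hg⟩, e⟩
    rw [MulAction.index_stabilizer, horb, Set.ncard_compl, Set.ncard_singleton,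
      Nat.card_eq_fintype_card (α := α), hα, hc] at h1
    omega
  have hin : ∀ (r : L) (z : α), z ≠ x → (r : Perm α) z = z → r ^ 9 = 1 →
      ∃ P : Sylow 3 L, f P = z ∧ r ∈ P := by
    intro r z hz hrz hr
    let s : MulAction.stabilizer L z := ⟨r, hrz⟩
    have hs : orderOf s ∣ 3 ^ 2 := by
      rw [← Subgroup.orderOf_coe]
      exact orderOf_dvd_of_pow_eq_one hr
    obtain ⟨i, -, hi⟩ := (Nat.dvd_prime_pow Nat.prime_three).1 hs
    obtain ⟨Q, hQ⟩ := (IsPGroup.of_card (n := i) (by rw [Nat.card_zpowers, hi]) :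
      IsPGroup 3 (zpowers s)).exists_le_sylow
    have hQ9 : Nat.card (Q : Subgroup (MulAction.stabilizer L z)) = 9 := by
      rw [SmallOrder.card_sylow_eq_pow (a := 2) (m := 4) (by rw [hstab z hz]; norm_num)
        (by norm_num) Q]
      norm_num
    set Q' : Subgroup L := (Q : Subgroup (MulAction.stabilizer L z)).map
      (MulAction.stabilizer L z).subtype with hQ'
    have hQ'c : Nat.card Q' = 9 := by
      rw [hQ', card_map_of_injective (MulAction.stabilizer L z).subtype_injective, hQ9]
    obtain ⟨P, hP⟩ : ∃ P : Sylow 3 L, (P : Subgroup L) = Q' :=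
      ⟨Sylow.ofCard Q' (by
        rw [hQ'c, hc, show (360 : ℕ) = 3 ^ 2 * 40 by norm_num,
          factorization_eq Nat.prime_three rfl (by norm_num)]
        norm_num), rfl⟩
    refine ⟨P, ((hfu P z fun u hu => ?_).resolve_left hz).symm, ?_⟩
    · rw [hP] at hu
      obtain ⟨v, -, rfl⟩ := hu
      exact v.2
    · show r ∈ (P : Subgroup L)
      rw [hP]
      exact ⟨s, hQ (mem_zpowers s), rfl⟩
  obtain ⟨P, hP⟩ := hsurj y hy
  refine ⟨(P : Subgroup L).map L.subtype, map_subtype_le _, ?_, ?_, ?_, ?_⟩
  · rw [card_map_of_injective L.subtype_injective, SmallOrder.Order360.card_sylow_three hc P]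
  · rintro _ ⟨r, hr, rfl⟩
    exact hP ▸ hfP P r hr
  · rintro _ ⟨r, hr, rfl⟩ hr1 w hw
    by_contra hne
    rw [not_or] at hne
    have hr9 : r ^ 9 = 1 := by
      have h1 := Subgroup.orderOf_dvd_natCard _ hr
      rw [SmallOrder.Order360.card_sylow_three hc P] at h1
      exact orderOf_dvd_iff_pow_eq_one.1 h1
    obtain ⟨Q, hQ, hrQ⟩ := hin r w hne.1 hw hr9
    have hPQ : P ≠ Q := fun e => hne.2 (by rw [← hQ, ← hP, e])
    have : r ∈ (P : Subgroup L) ⊓ Q := ⟨hr, hrQ⟩
    rw [SmallOrder.Order360.trivial_inter hc P Q hPQ, mem_bot] at this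
    exact hr1 (by rw [this]; rfl)
  · intro r hr hry hr9
    obtain ⟨Q, hQ, hrQ⟩ := hin ⟨r, hr⟩ y hy hry (Subtype.ext hr9)
    exact ⟨⟨r, hr⟩, hfinj (hQ.trans hP.symm) ▸ hrQ, rfl⟩

/-- Only the identity fixes four points. -/
theorem eq_one_of_fix_four (hα : Fintype.card α = 11) {H : Subgroup (Perm α)} (hH : Good H)
    (hHA : H ≤ alternatingGroup α) [MulAction.IsPretransitive H α] (hc : Nat.card H = 7920)
    {g : Perm α} (hg : g ∈ H) (e : Fin 4 ↪ α) (he : ∀ i, g (e i) = e i) : g = 1 := by
  classical
  by_contra hne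
  have ho : orderOf g ≠ 1 := fun h => hne (orderOf_eq_one_iff.1 h)
  set p := (orderOf g).minFac with hp'
  have hp : p.Prime := Nat.minFac_prime ho
  set z := g ^ (orderOf g / p) with hz'
  have hz : orderOf z = p := orderOf_pow_orderOf_div (orderOf_pos g).ne' (Nat.minFac_dvd _)
  have hzH : z ∈ H := H.pow_mem hg _
  have hzf : ∀ i, z (e i) = e i := fun i => Perm.pow_apply_eq_self_of_apply_eq_self (he i) _
  have hf4 : 4 ≤ (Finset.univ.filter fun w => z w = w).card := by
    calc 4 = (Finset.univ.map e).card := by simp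
      _ ≤ _ := Finset.card_le_card (by
        intro w hw
        obtain ⟨i, -, rfl⟩ := Finset.mem_map.1 hw
        exact Finset.mem_filter.2 ⟨Finset.mem_univ _, hzf i⟩)
  have hf := fixed_card z
  have hpd : p ∣ 7920 := by
    rw [← hz, ← hc]
    exact Subgroup.orderOf_dvd_natCard H hzH
  obtain ⟨k, hk, hs, -⟩ := prime_dvd_support hp hz
  have hp7 : p ≤ 7 := by
    have h1 : 1 * p ≤ k * p := Nat.mul_le_mul_right p hk
    omega
  -- the stabiliser of a point
  set x := e 0 with hx'
  set K : Subgroup (Perm α) := H ⊓ MulAction.stabilizer (Perm α) x with hK'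
  have hKx : ∀ u ∈ K, u x = x := fun u hu => hu.2
  have hzK : z ∈ K := ⟨hzH, hzf 0⟩
  have hKc : Nat.card K = 720 := by
    have h1 := (MulAction.stabilizer H x).card_mul_index
    rw [MulAction.index_stabilizer_of_transitive, hc, Nat.card_eq_fintype_card (α := α), hα] at h1
    have h2 : (MulAction.stabilizer H x).map H.subtype = K := by
      ext u
      refine ⟨?_, fun hu => ⟨⟨u, hu.1⟩, hu.2, rfl⟩⟩
      rintro ⟨v, hv, rfl⟩
      exact ⟨v.2, hv⟩
    rw [← h2, card_map_of_injective H.subtype_injective]
    omega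
  have hKG : Good K := hH.mono inf_le_left
  obtain ⟨L, hLn, hidx, hLs, hLc⟩ := exists_simple hα hKG (inf_le_left.trans hHA) hKx hKc
  set L' : Subgroup (Perm α) := L.map K.subtype with hL'
  have eL : L ≃* L' := equivMapOfInjective L _ K.subtype_injective
  have : IsSimpleGroup L' := eL.symm.isSimpleGroup
  have hL'c : Nat.card L' = 360 := (Nat.card_congr eL.toEquiv).symm.trans hLc
  have hL'x : ∀ u ∈ L', u x = x := fun u hu => hKx u (map_subtype_le L hu)
  obtain ⟨j, hj⟩ : ∃ j : Fin 4, e j ≠ x :=
    ⟨1, fun h => by simpa using e.injective h⟩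
  obtain ⟨R, hRL, hR9, hRy, hRfree, hRall⟩ :=
    three_data hα (hKG.mono (map_subtype_le L)) hL'c hL'x hj
  set y := e j with hy'
  have hp235 : p = 2 ∨ p = 3 ∨ p = 5 := by
    interval_cases p <;> first | omega | norm_num at hpd hp
  rcases hp235 with h | h | h <;> rw [h] at hz
  · -- an involution with seven fixed points
    obtain ⟨hsupp, -⟩ | ⟨-, hsg⟩ := support_of_order_two hα hH hzH hz
    swap
    · rw [Perm.mem_alternatingGroup.1 (hHA hzH)] at hsg
      exact absurd hsg (by decide)
    have hf7 : (Finset.univ.filter fun w => z w = w).card = 7 := by omega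
    set F := ((Finset.univ.filter fun w => z w = w).erase x).erase y with hF'
    have hF5 : F.card = 5 := by
      rw [hF', Finset.card_erase_of_mem, Finset.card_erase_of_mem, hf7]
      · exact Finset.mem_filter.2 ⟨Finset.mem_univ _, hzf 0⟩
      · exact Finset.mem_erase.2 ⟨hj, Finset.mem_filter.2 ⟨Finset.mem_univ _, hzf j⟩⟩
    obtain ⟨w₀, hw₀⟩ := Finset.card_pos.1 (by omega : 0 < F.card)
    have hmemF : ∀ w, w ∈ F ↔ z w = w ∧ w ≠ x ∧ w ≠ y := fun w => by
      simp only [hF', Finset.mem_erase, Finset.mem_filter, Finset.mem_univ, true_and]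
      tauto
    obtain ⟨hw₀z, hw₀x, hw₀y⟩ := (hmemF w₀).1 hw₀
    have hzz : z ^ 2 = 1 := by rw [← hz, pow_orderOf_eq_one]
    have hinjR : ∀ a ∈ R, ∀ b ∈ R, a w₀ = b w₀ → a = b := by
      intro a ha b hb hab
      by_contra hne
      rcases hRfree (a⁻¹ * b) (R.mul_mem (R.inv_mem ha) hb)
        (fun h => hne (inv_mul_eq_one.1 h)) w₀
        (by rw [Perm.mul_apply, ← hab, Perm.inv_def, Equiv.symm_apply_apply]) with h | h
      · exact hw₀x h
      · exact hw₀y h
    have hmap : ∀ r ∈ R, z * r * z⁻¹ ∈ R := by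
      intro r hr
      refine hRall _ ?_ ?_ ?_
      · obtain ⟨l, hl, hlr⟩ := hRL hr
        refine ⟨⟨z, hzK⟩ * l * ⟨z, hzK⟩⁻¹, hLn.conj_mem l hl _, ?_⟩
        rw [← hlr]
        rfl
      · rw [Perm.mul_apply, Perm.mul_apply, Perm.inv_eq_iff_eq.2 (hzf j).symm, hRy r hr, hzf j]
      · have h9 := Subgroup.orderOf_dvd_natCard R hr
        rw [hR9] at h9
        rw [conj_pow, orderOf_dvd_iff_pow_eq_one.1 h9, mul_one, mul_inv_cancel]
    set C : Subgroup (Perm α) := R ⊓ centralizer {z} with hC
    have hcorr : Nat.card C = F.card := by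
      have hCw : ∀ r : C, (r : Perm α) w₀ ∈ F := by
        intro r
        have hrz : (r : Perm α) * z = z * (r : Perm α) :=
          mem_centralizer_singleton_iff.1 r.2.2
        refine (hmemF _).2 ⟨apply_fixed_of_commute hrz hw₀z, ?_, ?_⟩
        · intro h
          exact hw₀x ((r : Perm α).injective (h.trans (hL'x _ (hRL r.2.1)).symm))
        · intro h
          exact hw₀y ((r : Perm α).injective (h.trans (hRy _ r.2.1).symm))
      rw [← Fintype.card_coe, ← Nat.card_eq_fintype_card]
      refine Nat.card_congr (Equiv.ofBijective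
        (fun r : C => (⟨(r : Perm α) w₀, hCw r⟩ : F)) ⟨?_, ?_⟩)
      · intro a b hab
        exact Subtype.ext (hinjR _ a.2.1 _ b.2.1 (congrArg Subtype.val hab))
      · rintro ⟨w, hw⟩
        obtain ⟨hwz, hwx, hwy⟩ := (hmemF w).1 hw
        have hb : Function.Bijective (fun r : R =>
            (⟨(r : Perm α) w₀, by
              refine ⟨fun h => hw₀x ((r : Perm α).injective (h.trans (hL'x _ (hRL r.2)).symm)),
                fun h => hw₀y ((r : Perm α).injective (h.trans (hRy _ r.2).symm))⟩⟩ :
              {v : α // v ≠ x ∧ v ≠ y})) := by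
          refine (Nat.bijective_iff_injective_and_card _).2
            ⟨fun a b h => Subtype.ext (hinjR _ a.2 _ b.2 (congrArg Subtype.val h)), ?_⟩
          rw [hR9, Nat.card_eq_fintype_card, Fintype.card_subtype,
            show (Finset.univ.filter fun v => v ≠ x ∧ v ≠ y) =
              ((Finset.univ : Finset α).erase x).erase y from by ext; simp [and_comm],
            Finset.card_erase_of_mem (by simp [hj]), Finset.card_erase_of_mem (Finset.mem_univ _),
            Finset.card_univ, hα]
        obtain ⟨r, hr⟩ := hb.2 ⟨w, hwx, hwy⟩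
        have hr' : (r : Perm α) w₀ = w := congrArg Subtype.val hr
        have heq : z * (r : Perm α) * z⁻¹ = r := by
          refine hinjR _ (hmap _ r.2) _ r.2 ?_
          rw [Perm.mul_apply, Perm.mul_apply, Perm.inv_eq_iff_eq.2 hw₀z.symm, hr', hwz]
        refine ⟨⟨r, r.2, mem_centralizer_singleton_iff.2 ?_⟩, Subtype.ext hr'⟩
        rw [← mul_inv_eq_iff_eq_mul.1 heq]
    have hdiv : Nat.card C ∣ 9 := hR9 ▸ card_dvd_of_le inf_le_left
    rw [hcorr, hF5] at hdiv
    norm_num at hdiv
  · -- an element of order three lies in the simple subgroup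
    have hz3 : z ^ 3 = 1 := by rw [← hz, pow_orderOf_eq_one]
    have hzL : z ∈ L' := by
      refine ⟨⟨z, hzK⟩, ?_, rfl⟩
      have h2 := mul_self_mem_of_index_two hidx (⟨z, hzK⟩ * ⟨z, hzK⟩ : K)
      have he4 : ((⟨z, hzK⟩ : K) * ⟨z, hzK⟩) * (⟨z, hzK⟩ * ⟨z, hzK⟩) = ⟨z, hzK⟩ := by
        apply Subtype.ext
        show (z * z) * (z * z) = z
        rw [show (z * z) * (z * z) = z ^ 3 * z by simp [pow_succ, mul_assoc], hz3, one_mul]
      rwa [he4] at h2
    have hzR := hRall z hzL (hzf j) (by
      rw [show 9 = 3 * 3 from rfl, pow_mul, hz3, one_pow])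
    have h1 : (Finset.univ.filter fun w => z w = w) ⊆ {x, y} := fun w hw => by
      simpa using hRfree z hzR (fun h => by rw [h, orderOf_one] at hz; norm_num at hz) w
        (Finset.mem_filter.1 hw).2
    have := (Finset.card_le_card h1).trans Finset.card_le_two
    omega
  · have := support_of_order_five hα hH hzH hz
    omega

/-- The group of order 7920 is sharply four times transitive. -/
theorem sharp (hα : Fintype.card α = 11) {H : Subgroup (Perm α)} (hH : Good H)
    (hHA : H ≤ alternatingGroup α) [MulAction.IsPretransitive H α] (hc : Nat.card H = 7920) :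
    MulAction.IsMultiplyPretransitive H α 4 ∧
      ∀ e : Fin 4 ↪ α, MulAction.stabilizer H e = ⊥ := by
  have hst : ∀ e : Fin 4 ↪ α, MulAction.stabilizer H e = ⊥ := fun e => by
    refine (eq_bot_iff_forall _).2 fun g hg => Subtype.ext ?_
    refine eq_one_of_fix_four hα hH hHA hc g.2 e fun i => ?_
    exact DFunLike.congr_fun (MulAction.mem_stabilizer_iff.1 hg) i
  refine ⟨(MulAction.isPretransitive_iff _ _).2 fun a b => ?_, hst⟩
  have horb : MulAction.orbit H a = Set.univ := by
    refine Set.eq_of_subset_of_ncard_le (Set.subset_univ _) (le_of_eq ?_) (Set.toFinite _)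
    have h1 : (MulAction.stabilizer H a).index = (MulAction.orbit H a).ncard :=
      MulAction.index_stabilizer H a
    rw [hst, index_bot, hc] at h1
    rw [Set.ncard_univ, ← h1, Nat.card_eq_fintype_card, Fintype.card_embedding_eq, hα,
      Fintype.card_fin]
    rfl
  exact (horb ▸ Set.mem_univ b : b ∈ MulAction.orbit H a)

end Cfsg.Agent.DegreeEleven
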