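import Cfsg.Agent.DegreeEleven.Count
import Cfsg.Agent.SmallOrder.Exclude720
import Cfsg.Agent.SmallOrder.Order360

/-!
# The point stabiliser in an even group of degree eleven of order 7920

Its order is 720; it has a simple subgroup of index two, in which a point stabiliser normalises a
Sylow 3-subgroup.
-/

set_option autoImplicit false

namespace Cfsg.Agent.DegreeEleven

open Equiv Subgroup

variable {α : Type*} [Fintype α] [DecidableEq α]

omit [Fintype α] [DecidableEq α] in
theorem exists_of_orbit {L : Subgroup (Perm α)} {y z : α} (h : z ∈ MulAction.orbit L y) :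
    ∃ g ∈ L, g y = z := by
  obtain ⟨g, hg⟩ := h
  exact ⟨g, g.2, hg⟩

/-- A large group fixing a point is transitive on the others. -/
theorem transitive_of_big (hα : Fintype.card α = 11) {L : Subgroup (Perm α)} (hL : Good L)
    {x : α} (hx : ∀ g ∈ L, g x = x) (h5 : 5 ∣ Nat.card L) (hbig : 120 < Nat.card L)
    {y z : α} (hy : y ≠ x) (hz : z ≠ x) : ∃ g ∈ L, g y = z := by
  classical
  by_contra hno
  have : Fact (Nat.Prime 5) := ⟨by norm_num⟩
  obtain ⟨q, hq⟩ := exists_prime_orderOf_dvd_card' (G := L) 5 h5
  have hoq : orderOf (q : Perm α) = 5 := (Subgroup.orderOf_coe q).trans hq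
  obtain ⟨x', hx', huniq⟩ := exists_unique_fixed (σ := (q : Perm α))
    (by rw [support_of_order_five hα hL q.2 hoq, hα])
  have hqm : ∀ w, w ≠ x → (q : Perm α) w ≠ w := fun w hw e =>
    hw ((huniq _ e).trans (huniq _ (hx _ q.2)).symm)
  have hfive : ∀ w, w ≠ x → 5 ≤ Nat.card (MulAction.orbit L w) := by
    intro w hw
    have hP : IsPGroup 5 (zpowers q) := IsPGroup.of_card (n := 1) (by
      rw [Nat.card_zpowers, hq, pow_one])
    obtain ⟨k, hk⟩ := hP.card_orbit w
    have hsub : MulAction.orbit (zpowers q) w ⊆ MulAction.orbit L w := by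
      rintro _ ⟨g, rfl⟩
      exact ⟨(g : L), rfl⟩
    have hle := Nat.card_mono (Set.toFinite _) hsub
    rcases k with _ | k
    · exfalso
      rw [pow_zero, Nat.card_coe_set_eq, Set.ncard_eq_one] at hk
      obtain ⟨v, hv⟩ := hk
      have h1 : w ∈ MulAction.orbit (zpowers q) w := MulAction.mem_orbit_self w
      have h2 : (q : Perm α) w ∈ MulAction.orbit (zpowers q) w := ⟨⟨q, mem_zpowers q⟩, rfl⟩
      rw [hv, Set.mem_singleton_iff] at h1 h2
      exact hqm w hw (h2.trans h1.symm)
    · calc 5 ≤ 5 ^ (k + 1) := Nat.le_self_pow (by omega) 5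
        _ = Nat.card (MulAction.orbit (zpowers q) w) := hk.symm
        _ ≤ _ := hle
  set A := MulAction.orbit L y with hA
  set B := MulAction.orbit L z with hB
  have hdisj : Disjoint A B := by
    refine Set.disjoint_left.2 fun w hw hw' => hno (exists_of_orbit ?_)
    rw [← MulAction.orbit_eq_iff.2 hw, MulAction.orbit_eq_iff.2 hw']
    exact MulAction.mem_orbit_self z
  have hxA : ∀ w, w ≠ x → x ∉ MulAction.orbit L w := by
    rintro w hw ⟨g, hg⟩
    exact hw ((g : Perm α).injective (hg.trans (hx _ g.2).symm))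
  have hsum : Nat.card A + Nat.card B ≤ 10 := by
    rw [Nat.card_coe_set_eq, Nat.card_coe_set_eq, ← Set.ncard_union_eq hdisj]
    refine (Set.ncard_le_ncard (t := {x}ᶜ) ?_).trans ?_
    · rintro w (hw | hw) rfl
      · exact hxA y hy hw
      · exact hxA z hz hw
    · rw [Set.ncard_compl, Set.ncard_singleton, Nat.card_eq_fintype_card, hα]
  have h5A : 5 ≤ Nat.card A := hfive y hy
  have h5B : 5 ≤ Nat.card B := hfive z hz
  have hA5 : Nat.card A = 5 := by omega
  have hB5 : Nat.card B = 5 := by omega
  -- the kernel of the action on `A`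
  set f : L →* Perm A := MulAction.toPermHom L A with hf
  have hker : ∀ k : L, k ∈ f.ker → ∀ w ∈ A, (k : Perm α) w = w := fun k hk w hw => by
    have := congrArg (fun σ : Perm A => σ ⟨w, hw⟩) (MonoidHom.mem_ker.1 hk)
    exact congrArg Subtype.val this
  have hk5 : ¬ 5 ∣ Nat.card f.ker := by
    intro h
    obtain ⟨u, hu⟩ := exists_prime_orderOf_dvd_card' 5 h
    have hou : orderOf ((u : L) : Perm α) = 5 := by
      rw [Subgroup.orderOf_coe, Subgroup.orderOf_coe, hu]
    obtain ⟨x₀, -, huq⟩ := exists_unique_fixed (σ := ((u : L) : Perm α))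
      (by rw [support_of_order_five hα hL (u : L).2 hou, hα])
    have hyA : y ∈ A := MulAction.mem_orbit_self y
    exact hy ((huq _ (hker _ u.2 y hyA)).trans (huq _ (hx _ (u : L).2)).symm)
  have htriv : f.ker = ⊥ := by
    refine (Subgroup.eq_bot_iff_forall _).2 fun k hk => Subtype.ext (Equiv.ext fun w => ?_)
    have hblock : MulAction.IsBlock L (MulAction.orbit f.ker (⟨z, MulAction.mem_orbit_self z⟩ : B)) :=
      MulAction.IsBlock.orbit_of_normal _
    have hdvd := hblock.ncard_dvd_card (MulAction.nonempty_orbit _)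
    rw [hB5] at hdvd
    have hcopr : ∀ v : B, MulAction.orbit f.ker v = {v} := by
      intro v
      have h1 : (MulAction.orbit f.ker v).ncard ∣ Nat.card f.ker := by
        rw [← MulAction.index_stabilizer]
        exact index_dvd_card _
      have h2 := (MulAction.IsBlock.orbit_of_normal (G := L) (N := f.ker) v).ncard_dvd_card
        (MulAction.nonempty_orbit _)
      rw [hB5] at h2
      rcases (Nat.dvd_prime (by norm_num : Nat.Prime 5)).1 h2 with e | e
      · obtain ⟨v', hv'⟩ := Set.ncard_eq_one.1 e
        have := MulAction.mem_orbit_self (M := f.ker) v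
        rw [hv', Set.mem_singleton_iff] at this
        rw [hv', this]
      · exact absurd (e ▸ h1) hk5
    show (k : Perm α) w = w
    by_cases hwx : w = x
    · rw [hwx]; exact hx _ k.2
    by_cases hwA : w ∈ A
    · exact hker k hk w hwA
    · have hwB : w ∈ B := by
        by_contra hwB
        have h3 : Nat.card A + Nat.card B + 1 ≤ 10 := by
          rw [Nat.card_coe_set_eq, Nat.card_coe_set_eq, ← Set.ncard_union_eq hdisj,
            ← Set.ncard_insert_of_notMem (a := w) (by simp [hwA, hwB])]
          refine (Set.ncard_le_ncard (t := {x}ᶜ) ?_).trans ?_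
          · rintro v (rfl | hv | hv)
            · exact hwx
            · rintro rfl; exact hxA y hy hv
            · rintro rfl; exact hxA z hz hv
          · rw [Set.ncard_compl, Set.ncard_singleton, Nat.card_eq_fintype_card, hα]
        omega
      have h4 : (⟨k, hk⟩ : f.ker) • (⟨w, hwB⟩ : B) ∈ MulAction.orbit f.ker (⟨w, hwB⟩ : B) :=
        MulAction.mem_orbit _ _
      rw [hcopr, Set.mem_singleton_iff] at h4
      exact congrArg Subtype.val h4
  have hle := Nat.card_le_card_of_injective f ((MonoidHom.ker_eq_bot_iff f).1 htriv)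
  rw [Nat.card_perm, hA5, show Nat.factorial 5 = 120 from rfl] at hle
  omega

/-- A group of order 720 or 360 as above has 36 Sylow 5-subgroups. -/
theorem sylow_five_count (hα : Fintype.card α = 11) {X : Subgroup (Perm α)} (hX : Good X)
    (hXA : X ≤ alternatingGroup α) (hc : Nat.card X = 720 ∨ Nat.card X = 360) :
    Nat.card (Sylow 5 X) = 36 ∧ ∀ P : Sylow 5 X, Nat.card (P : Subgroup X) = 5 ∧
      Nat.card (centralizer ((P : Subgroup X) : Set X)) = 5 ∧
      Nat.card (normalizer ((P : Subgroup X) : Set X)) = Nat.card X / 36 := by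
  have : Fact (Nat.Prime 5) := ⟨by norm_num⟩
  obtain ⟨e, he, hmod, -, hP⟩ := five_data hα hX hXA (by rcases hc with h | h <;> rw [h] <;> norm_num)
  obtain ⟨P⟩ : Nonempty (Sylow 5 X) := inferInstance
  have hmul := SmallOrder.card_sylow_mul_card_normalizer P
  rw [(hP P).2.2] at hmul
  rcases hc with h | h <;> rw [h] at hmul hmod ⊢ <;> rcases he with rfl | rfl | rfl <;>
    (try norm_num at hmod) <;>
    exact ⟨by omega, fun R => ⟨(hP R).1, (hP R).2.1, by rw [(hP R).2.2]⟩⟩

/-- A normal subgroup of order divisible by five contains all 36 Sylow 5-subgroups. -/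
theorem normal_five (hα : Fintype.card α = 11) {X : Subgroup (Perm α)} (hX : Good X)
    (hXA : X ≤ alternatingGroup α) (hc : Nat.card X = 720 ∨ Nat.card X = 360)
    (U : Subgroup X) [U.Normal] (hU : 5 ∣ Nat.card U) :
    (∃ W : Subgroup X, W.Normal ∧ Nat.card W = 36) ∨ 360 ∣ Nat.card U := by
  classical
  have : Fact (Nat.Prime 5) := ⟨by norm_num⟩
  obtain ⟨-, hP⟩ := sylow_five_count hα hX hXA hc
  obtain ⟨u, hu⟩ := exists_prime_orderOf_dvd_card' 5 hU
  obtain ⟨P, huP⟩ := (IsPGroup.of_card (n := 1) (by
    rw [Nat.card_zpowers, Subgroup.orderOf_coe, hu, pow_one]) :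
      IsPGroup 5 (zpowers (u : X))).exists_le_sylow
  obtain ⟨hP5, hC5, hN⟩ := hP P
  have hPU : (P : Subgroup X) ≤ U := by
    rw [← eq_of_le_of_card_ge huP (by rw [hP5, Nat.card_zpowers, Subgroup.orderOf_coe, hu])]
    exact zpowers_le.2 u.2
  set N := normalizer ((P : Subgroup X) : Set X) with hNdef
  have hsup : N ⊔ U = ⊤ := Sylow.normalizer_sup_eq_top' P hPU
  have hrel : U.relIndex N = U.index := by
    rw [← relIndex_top_right, ← hsup, relIndex_sup_right]
  have h1 := card_mul_index U
  have h2 := (U.subgroupOf N).card_mul_index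
  rw [show (U.subgroupOf N).index = U.relIndex N from rfl, hrel, hN,
    ← inf_subgroupOf_right, Nat.card_congr (subgroupOfEquivOfLe inf_le_right).toEquiv] at h2
  have hV5 : 5 ∣ Nat.card (U ⊓ N : Subgroup X) :=
    hP5 ▸ card_dvd_of_le (le_inf hPU le_normalizer)
  have hVN : Nat.card (U ⊓ N : Subgroup X) ∣ Nat.card X / 36 := hN ▸ card_dvd_of_le inf_le_right
  have hi0 : U.index ≠ 0 := index_ne_zero_of_finite
  have hcard : Nat.card U = 36 * Nat.card (U ⊓ N : Subgroup X) := by
    apply Nat.eq_of_mul_eq_mul_right (Nat.pos_of_ne_zero hi0)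
    rw [h1, mul_assoc, h2]
    rcases hc with h | h <;> rw [h] <;> norm_num
  obtain ⟨c, hc'⟩ := hV5
  have hc4 : c = 1 ∨ c = 2 ∨ c = 4 := by
    have : 5 * c ∣ 20 := hc' ▸ hVN.trans (by rcases hc with h | h <;> rw [h] <;> norm_num)
    have h4 : c ∣ 4 := Nat.dvd_of_mul_dvd_mul_left (by norm_num : 0 < 5) (show 5 * c ∣ 5 * 4 from this)
    have := Nat.le_of_dvd (by norm_num) h4
    interval_cases c <;> simp_all
  rcases hc4 with rfl | h24
  · -- normal complement
    left
    have hU180 : Nat.card U = 180 := by rw [hcard, hc']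
    have hP' : (P : Subgroup X) = U ⊓ N :=
      eq_of_le_of_card_ge (le_inf hPU le_normalizer) (by rw [hP5, hc'])
    let Q : Sylow 5 U := P.subtype hPU
    have hQc : Nat.card (Q : Subgroup U) = 5 := by
      rw [Sylow.coe_subtype, Nat.card_congr (subgroupOfEquivOfLe hPU).toEquiv, hP5]
    have hle : normalizer ((Q : Subgroup U) : Set U) ≤ centralizer ((Q : Subgroup U) : Set U) := by
      intro a ha
      have haP : (a : X) ∈ (P : Subgroup X) := by
        rw [hP']
        refine ⟨a.2, mem_normalizer_iff.2 fun w => ⟨fun hw => ?_, fun hw => ?_⟩⟩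
        · exact (mem_normalizer_iff.1 ha ⟨w, hPU hw⟩).1 hw
        · have hwU : w ∈ U := by
            have := U.mul_mem (U.mul_mem (U.inv_mem a.2) (hPU hw)) a.2
            simpa [mul_assoc] using this
          exact (mem_normalizer_iff.1 ha ⟨w, hwU⟩).2 hw
      refine mem_centralizer_iff.2 fun w hw => Subtype.ext ?_
      have := isCyclic_of_prime_card hP5
      have h3 := this.isMulCommutative
      have h4 := congrArg (fun v : (P : Subgroup X) => (v : X))
        (mul_comm' (⟨w, hw⟩ : (P : Subgroup X)) ⟨a, haP⟩)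
      exact h4
    set W := (MonoidHom.transferSylow Q hle).ker with hWdef
    have hW := (MonoidHom.ker_transferSylow_isComplement' Q hle).card_mul_card
    rw [← hWdef, hQc, hU180] at hW
    have hW36 : Nat.card W = 36 := by omega
    have hWi : W.index = 5 := by
      have := card_mul_index W
      rw [hW36, hU180] at this
      omega
    have : W.Characteristic := by
      refine characteristic_iff_map_le.2 fun φ v hv => ?_
      rw [← QuotientGroup.eq_one_iff, ← orderOf_eq_one_iff]
      have h4 : orderOf (v : U ⧸ W) ∣ 5 := by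
        have := orderOf_dvd_natCard (v : U ⧸ W)
        rwa [← index_eq_card, hWi] at this
      have h3 : orderOf v ∣ 36 := by
        obtain ⟨w, hw, rfl⟩ := hv
        show orderOf (φ w) ∣ 36
        rw [MulEquiv.orderOf_eq, ← hW36]
        exact Subgroup.orderOf_dvd_natCard W hw
      exact Nat.dvd_one.1 ((show Nat.gcd 5 36 = 1 by norm_num) ▸
        Nat.dvd_gcd h4 ((orderOf_map_dvd (QuotientGroup.mk' W) v).trans h3))
    exact ⟨W.map U.subtype, ConjAct.normal_of_characteristic_of_normal,
      by rw [card_map_of_injective U.subtype_injective, hW36]⟩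
  · right
    rcases h24 with rfl | rfl <;> rw [hcard, hc'] <;> norm_num

/-- A group of order 720 as above has no nontrivial normal subgroup of order prime to five. -/
theorem five_free_trivial (hα : Fintype.card α = 11) {K : Subgroup (Perm α)} (hK : Good K)
    (hKA : K ≤ alternatingGroup α) {x : α} (hx : ∀ g ∈ K, g x = x) (hc : Nat.card K = 720)
    (N : Subgroup K) [N.Normal] (hN : ¬ 5 ∣ Nat.card N) : N = ⊥ := by
  classical
  have h5 : Fact (Nat.Prime 5) := ⟨by norm_num⟩
  have h2 : Fact (Nat.Prime 2) := ⟨Nat.prime_two⟩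
  obtain ⟨y, hy⟩ : ∃ y, y ≠ x := by
    have : Nontrivial α := Fintype.one_lt_card_iff_nontrivial.1 (by omega)
    exact exists_ne x
  set O := MulAction.orbit K y with hO
  have hOall : O = {x}ᶜ := by
    ext w
    refine ⟨?_, fun hw => ?_⟩
    · rintro ⟨g, rfl⟩ h
      exact hy ((g : Perm α).injective (h.trans (hx _ g.2).symm))
    · obtain ⟨g, hg, e⟩ := transitive_of_big hα hK hx (by rw [hc]; norm_num)
        (by rw [hc]; norm_num) hy hw
      exact ⟨⟨g, hg⟩, e⟩
  have hO10 : Nat.card O = 10 := by
    rw [Nat.card_coe_set_eq, hOall, Set.ncard_compl, Set.ncard_singleton,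
      Nat.card_eq_fintype_card, hα]
  have hsq : ∀ u : N, u * u = 1 := by
    intro u
    refine Subtype.ext (Subtype.ext (Equiv.ext fun w => ?_))
    show ((u : K) : Perm α) (((u : K) : Perm α) w) = w
    by_cases hw : w = x
    · rw [hw, hx _ (u : K).2, hx _ (u : K).2]
    let v : O := ⟨w, hOall ▸ hw⟩
    have hblock := MulAction.IsBlock.orbit_of_normal (G := K) (N := N) v
    have hd1 := hblock.ncard_dvd_card (MulAction.nonempty_orbit _)
    rw [hO10] at hd1
    have hd2 : (MulAction.orbit N v).ncard ∣ Nat.card N := by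
      rw [← MulAction.index_stabilizer]; exact index_dvd_card _
    have hle : (MulAction.orbit N v).ncard ≤ 2 := by
      have hcop : Nat.Coprime (MulAction.orbit N v).ncard 5 :=
        ((Nat.Prime.coprime_iff_not_dvd h5.out).2 fun h => hN (h.trans hd2)).symm
      exact Nat.le_of_dvd (by norm_num)
        (hcop.dvd_of_dvd_mul_right (show _ ∣ 2 * 5 from hd1))
    have m0 := MulAction.mem_orbit_self (M := N) v
    have m1 : u • v ∈ MulAction.orbit N v := MulAction.mem_orbit v u
    have m2 : u • u • v ∈ MulAction.orbit N v := by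
      rw [← mul_smul]; exact MulAction.mem_orbit v (u * u)
    by_contra hne
    have hne2 : u • u • v ≠ v := fun e => hne (congrArg Subtype.val e)
    have hne1 : u • v ≠ v := fun e => hne2 (by rw [e, e])
    have h3 : ({v, u • v, u • u • v} : Set O) ⊆ MulAction.orbit N v := by
      intro a ha
      simp only [Set.mem_insert_iff, Set.mem_singleton_iff] at ha
      rcases ha with rfl | rfl | rfl <;> assumption
    have h4 := Set.ncard_le_ncard h3
    rw [Set.ncard_insert_of_notMem, Set.ncard_pair] at h4
    · omega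
    · exact fun e => hne1 (MulAction.injective u e).symm
    · simp only [Set.mem_insert_iff, Set.mem_singleton_iff, not_or]
      exact ⟨hne1.symm, hne2.symm⟩
  obtain ⟨k, hk⟩ := IsPGroup.iff_card.1 (show IsPGroup 2 N from fun u => ⟨1, by
    rw [pow_one, sq]; exact hsq u⟩)
  have hk4 : k ≤ 4 := by
    have h16 : 2 ^ k ∣ 720 := hc ▸ hk ▸ card_subgroup_dvd_card N
    by_contra h
    have := (pow_dvd_pow 2 (show 5 ≤ k by omega)).trans h16
    norm_num at this
  -- an element of order five moves every nontrivial member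
  obtain ⟨-, hP⟩ := sylow_five_count hα hK hKA (Or.inl hc)
  obtain ⟨P⟩ : Nonempty (Sylow 5 K) := inferInstance
  obtain ⟨hP5, hC5, hN20⟩ := hP P
  obtain ⟨q, hq⟩ := exists_prime_orderOf_dvd_card' 5 hP5.symm.dvd
  have hqK : orderOf (q : K) = 5 := (Subgroup.orderOf_coe q).trans hq
  have hqq : (q : K) ^ 5 = 1 := orderOf_dvd_iff_pow_eq_one.1 hqK.dvd
  let σ : Perm N := (MulAut.conjNormal (q : K) : MulAut N).toEquiv
  have hσ5 : σ ^ 5 = 1 := by
    have h1 : (MulAut.conjNormal (H := N) (q : K)) ^ 5 = 1 := by
      rw [← map_pow, hqq, map_one]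
    exact (map_pow (MulAut.toPerm N) (MulAut.conjNormal (H := N) (q : K)) 5).symm.trans
      (by rw [h1, map_one])
  obtain ⟨j, hj⟩ := SmallOrder.cycleType_of_pow_eq_one (hp := h5) hσ5
  have hsupp : σ.support = Finset.univ.erase 1 := by
    ext u
    simp only [Perm.mem_support, Finset.mem_erase, Finset.mem_univ, and_true, ne_eq]
    refine not_congr ⟨fun e => ?_, fun e => by subst e; exact map_one (MulAut.conjNormal (q : K))⟩
    by_contra hu
    have hmem : (u : K) ∈ centralizer ({(q : K)} : Set K) := by
      rw [mem_centralizer_singleton_iff]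
      have h6 : (q : K) * u * (q : K)⁻¹ = u := by
        rw [← MulAut.conjNormal_apply]; exact congrArg Subtype.val e
      exact (mul_inv_eq_iff_eq_mul.1 h6).symm
    have h7 := Subgroup.orderOf_dvd_natCard _ hmem
    rw [card_centralizer_five hα hK hKA (q : K) hqK] at h7
    have h8 : orderOf (u : K) ∣ 2 := orderOf_dvd_of_pow_eq_one (by
      rw [sq]; exact congrArg Subtype.val (hsq u))
    exact hu (Subtype.ext (orderOf_eq_one_iff.1
      (Nat.eq_one_of_dvd_coprimes (by norm_num : Nat.Coprime 5 2) h7 h8)))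
  have hmod : Nat.card N = 1 + j * 5 := by
    have h1 := σ.sum_cycleType
    rw [hj, Multiset.sum_replicate, hsupp, Finset.card_erase_of_mem (Finset.mem_univ _),
      Finset.card_univ, ← Nat.card_eq_fintype_card, smul_eq_mul] at h1
    have := Nat.card_pos (α := N)
    omega
  rw [hk] at hmod
  rcases (show k = 0 ∨ k = 4 by interval_cases k <;> omega) with rfl | rfl
  · exact card_eq_one.1 (by rw [hk]; norm_num)
  exfalso
  -- the Sylow 2-subgroup would be elementary
  have hNsyl : ∀ g : K, g ^ 4 = 1 → g ^ 2 = 1 := by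
    intro g hg
    obtain ⟨R, hR⟩ : ∃ R : Sylow 2 K, (R : Subgroup K) = N :=
      ⟨Sylow.ofCard N (by
        rw [hk, hc, show (720 : ℕ) = 2 ^ 4 * 45 by norm_num,
          factorization_eq Nat.prime_two rfl (by norm_num)]), rfl⟩
    obtain ⟨S, hS⟩ := (show IsPGroup 2 (zpowers g) from IsPGroup.of_card (n :=
        ((Nat.dvd_prime_pow Nat.prime_two).1
          (show orderOf g ∣ 2 ^ 2 from orderOf_dvd_of_pow_eq_one hg)).choose) (by
        rw [Nat.card_zpowers]
        exact ((Nat.dvd_prime_pow Nat.prime_two).1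
          (show orderOf g ∣ 2 ^ 2 from orderOf_dvd_of_pow_eq_one hg)).choose_spec.2)).exists_le_sylow
    have : (R : Subgroup K).Normal := hR ▸ inferInstance
    have hu1 := Sylow.unique_of_normal R this
    rw [Subsingleton.elim S R, hR] at hS
    have := congrArg Subtype.val (hsq ⟨g, hS (mem_zpowers g)⟩)
    rw [sq]; exact this
  have hcyc : IsCyclic (MulAut (P : Subgroup K)) := by
    have := isCyclic_of_prime_card hP5
    have : Fact (Nat.Prime (Nat.card (P : Subgroup K))) := ⟨by rw [hP5]; exact h5.out⟩
    have : IsCyclic (ZMod (Nat.card (P : Subgroup K)))ˣ := inferInstance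
    exact isCyclic_of_surjective _ (IsCyclic.mulAutMulEquiv (G := (P : Subgroup K))).symm.surjective
  set r := (P : Subgroup K).normalizerMonoidHom with hr
  have hrange : Nat.card r.range = 4 := by
    have h1 := card_mul_index r.ker
    rw [index_ker, hN20, hc, normalizerMonoidHom_ker,
      Nat.card_congr (subgroupOfEquivOfLe (centralizer_le_normalizer _)).toEquiv, hC5] at h1
    omega
  obtain ⟨γ, hγ⟩ := IsCyclic.exists_ofOrder_eq_natCard (α := r.range)
  obtain ⟨n, hn⟩ := γ.2
  have h4n : 4 ∣ orderOf (n : K) := by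
    rw [← hrange, ← hγ, ← Subgroup.orderOf_coe γ, ← hn, Subgroup.orderOf_coe]
    exact orderOf_map_dvd r n
  have ho : orderOf ((n : K) ^ (orderOf (n : K) / 4)) = 4 :=
    orderOf_pow_orderOf_div (orderOf_pos _).ne' h4n
  have h9 := hNsyl _ (by rw [← ho]; exact pow_orderOf_eq_one _)
  have := orderOf_dvd_of_pow_eq_one h9
  rw [ho] at this
  norm_num at this

/-- The simple subgroup of order 360. -/
theorem exists_simple (hα : Fintype.card α = 11) {K : Subgroup (Perm α)} (hK : Good K)
    (hKA : K ≤ alternatingGroup α) {x : α} (hx : ∀ g ∈ K, g x = x) (hc : Nat.card K = 720) :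
    ∃ L : Subgroup K, L.Normal ∧ L.index = 2 ∧ IsSimpleGroup L ∧ Nat.card L = 360 := by
  classical
  have hfree : ∀ (W : Subgroup K) [W.Normal], Nat.card W ≠ 36 := fun W _ h => by
    have := five_free_trivial hα hK hKA hx hc W (by rw [h]; norm_num)
    rw [this, card_bot] at h; norm_num at h
  have hna : ¬ IsMulCommutative K := fun hcm => by
    obtain ⟨-, hP⟩ := sylow_five_count hα hK hKA (Or.inl hc)
    obtain ⟨P⟩ : Nonempty (Sylow 5 K) := inferInstance
    have h1 : centralizer ((P : Subgroup K) : Set K) = ⊤ :=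
      eq_top_iff.2 fun g _ => mem_centralizer_iff.2 fun a _ => mul_comm' a g
    have h2 := (hP P).2.1
    rw [h1, card_top, hc] at h2
    norm_num at h2
  have hnot : ¬ IsSimpleGroup K := fun h => SmallOrder.Order720.not_card (G := K) hna hc
  obtain ⟨L, hLn, hL0, hL1⟩ : ∃ L : Subgroup K, L.Normal ∧ L ≠ ⊥ ∧ L ≠ ⊤ := by
    by_contra hno
    refine hnot ?_
    have : Nontrivial K := Finite.one_lt_card_iff_nontrivial.1 (by omega)
    exact ⟨fun H hH => or_iff_not_imp_left.2 fun h0 => by_contra fun h1 => hno ⟨H, hH, h0, h1⟩⟩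
  have hL5 : 5 ∣ Nat.card L := by
    by_contra h
    exact hL0 (five_free_trivial hα hK hKA hx hc L h)
  have hL360 : Nat.card L = 360 := by
    rcases normal_five hα hK hKA (Or.inl hc) L hL5 with ⟨W, hW, h36⟩ | h
    · exact absurd h36 (hfree W)
    · have hd : Nat.card L ∣ 720 := hc ▸ card_subgroup_dvd_card L
      obtain ⟨i, hi⟩ := h
      have : 360 * i ∣ 360 * 2 := hi ▸ hd
      have h2 := (Nat.dvd_prime Nat.prime_two).1 (Nat.dvd_of_mul_dvd_mul_left (by norm_num) this)
      rcases h2 with rfl | rfl
      · rw [hi]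
      · exact absurd (eq_top_of_card_eq L (hi.trans hc.symm)) hL1
  have hidx : L.index = 2 := by
    have := card_mul_index L
    rw [hL360, hc] at this
    omega
  refine ⟨L, hLn, hidx, ?_, hL360⟩
  set L' : Subgroup (Perm α) := L.map K.subtype with hL'
  have e : L ≃* L' := equivMapOfInjective L _ K.subtype_injective
  have hL'c : Nat.card L' = 360 := (Nat.card_congr e.toEquiv).symm.trans hL360
  have hfree5 : ∀ U : Subgroup L, U.Normal → ¬ 5 ∣ Nat.card U → U = ⊥ := by
    intro U hU h5U
    obtain ⟨g, hg⟩ : ∃ g : K, g ∉ L := by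
      by_contra h
      push Not at h
      exact hL1 (eq_top_iff.2 fun g _ => h g)
    set c : K →* MulAut L := MulAut.conjNormal with hcdef
    set U' := U.map (c g).toMonoidHom with hU'
    have hU'n : U'.Normal := hU.map _ (c g).surjective
    set V := U ⊔ U' with hV
    have hVc : ¬ 5 ∣ Nat.card V := by
      have hd : Nat.card V ∣ Nat.card U * Nat.card U' := by
        have h1 := (U.subgroupOf V).card_mul_index
        rw [Nat.card_congr (subgroupOfEquivOfLe (le_sup_left : U ≤ V)).toEquiv,
          show (U.subgroupOf V).index = U.relIndex (U' ⊔ U) by rw [hV, sup_comm]; rfl,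
          relIndex_sup_right] at h1
        rw [← h1]
        exact mul_dvd_mul_left _ (relIndex_dvd_card _ _)
      intro h
      rcases (Nat.Prime.dvd_mul (by norm_num)).1 (h.trans hd) with h' | h'
      · exact h5U h'
      · have e1 : Nat.card U = Nat.card U' := Nat.card_congr ((c g).subgroupMap U).toEquiv
        exact h5U (e1 ▸ h')
    have hstab : ∀ a : K, V.map (c a).toMonoidHom ≤ V := by
      have hmem : ∀ l : L, ∀ (Z : Subgroup L), Z.Normal →
          Z.map (c (l : K)).toMonoidHom ≤ Z := by
        intro l Z hZ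
        rintro _ ⟨u, hu, rfl⟩
        have : c (l : K) u = l * u * l⁻¹ := Subtype.ext (by
          rw [hcdef, MulAut.conjNormal_apply]; rfl)
        show c (l : K) u ∈ Z
        rw [this]
        exact hZ.conj_mem u hu l
      have hgg : g * g ∈ L := mul_self_mem_of_index_two hidx g
      intro a
      rw [Subgroup.map_sup]
      refine sup_le ?_ ?_
      · by_cases ha : a ∈ L
        · exact (hmem ⟨a, ha⟩ U hU).trans le_sup_left
        · have hag : a * g⁻¹ ∈ L := (mul_mem_iff_of_index_two hidx).2
            (by simp [ha, hg])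
          rintro _ ⟨u, hu, rfl⟩
          have : c a u = c (a * g⁻¹) (c g u) := by
            rw [← MulAut.mul_apply, ← map_mul, inv_mul_cancel_right]
          show c a u ∈ U ⊔ U'
          rw [this]
          exact mem_sup_right (hmem ⟨_, hag⟩ U' hU'n ⟨c g u, ⟨u, hu, rfl⟩, rfl⟩)
      · rw [hU', map_map]
        by_cases ha : a ∈ L
        · rw [← map_map]
          exact (hmem ⟨a, ha⟩ U' hU'n).trans le_sup_right
        · have hag : a * g ∈ L := (mul_mem_iff_of_index_two hidx).2 (by simp [ha, hg])
          rintro _ ⟨u, hu, rfl⟩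
          have : c a (c g u) = c (a * g) u := by rw [← MulAut.mul_apply, ← map_mul]
          show c a (c g u) ∈ U ⊔ U'
          rw [this]
          exact mem_sup_left (hmem ⟨_, hag⟩ U hU ⟨u, hu, rfl⟩)
    have hVn : (V.map L.subtype).Normal := by
      refine ⟨fun v hv a => ?_⟩
      obtain ⟨u, hu, rfl⟩ := hv
      refine ⟨c a u, hstab a ⟨u, hu, rfl⟩, ?_⟩
      rw [hcdef]
      exact MulAut.conjNormal_apply a u
    have := five_free_trivial hα hK hKA hx hc (V.map L.subtype)
      (by rwa [card_map_of_injective L.subtype_injective])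
    rw [map_eq_bot_iff_of_injective _ L.subtype_injective] at this
    exact le_bot_iff.1 (this ▸ le_sup_left)
  have : Nontrivial L := Finite.one_lt_card_iff_nontrivial.1 (by omega)
  refine ⟨fun U hU => or_iff_not_imp_left.2 fun hU0 => ?_⟩
  have hU5 : 5 ∣ Nat.card U := by
    by_contra h
    exact hU0 (hfree5 U hU h)
  have hUn : (U.map (e : L →* L')).Normal := hU.map _ e.surjective
  have hUc : Nat.card (U.map (e : L →* L')) = Nat.card U :=
    card_map_of_injective e.injective
  rcases normal_five hα (hK.mono (map_subtype_le L)) ((map_subtype_le L).trans hKA)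
    (Or.inr hL'c) (U.map (e : L →* L')) (hUc ▸ hU5) with ⟨W, hW, h36⟩ | h
  · exfalso
    have hWn : (W.comap (e : L →* L')).Normal := hW.comap _
    have hWc : Nat.card (W.comap (e : L →* L')) = 36 := by
      rw [← h36]
      exact (card_map_of_injective (f := (e : L →* L')) e.injective).symm.trans
        (by rw [map_comap_eq_self_of_surjective e.surjective])
    have := hfree5 _ hWn (by rw [hWc]; norm_num)
    rw [this, card_bot] at hWc
    norm_num at hWc
  · refine eq_top_of_card_eq U (Nat.dvd_antisymm (card_subgroup_dvd_card U) ?_)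
    rw [hL360, ← hUc]
    exact h

end Cfsg.Agent.DegreeEleven
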